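import Groth.Agent.Amp73.GlobGen
import Groth.Agent.Amp73.Avoid
import Groth.Agent.Amp73.PullTensor
import Groth.Agent.ParaF26.Open

/-!
Invertible modules on affine schemes with finitely many closed points are trivial.
-/

set_option autoImplicit false

universe u

open CategoryTheory AlgebraicGeometry Opposite TopologicalSpace

noncomputable section

namespace Groth.Agent.SemilocalPic51

open Var76.LineBundle Var76.ZeroScheme Amp73

variable {X : Scheme.{u}} {L : X.Modules}

theorem mem_genLocus_smul (hL : PicF.IsInvertible L) (g : Γ(X, ⊤)) (t : Γ(L, ⊤)) (x : X) :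
    x ∈ CohB1.genLocus L (Var76.Frames.ofSection L (g • t)) ↔
      x ∈ X.basicOpen g ∧ x ∈ CohB1.genLocus L (Var76.Frames.ofSection L t) := by
  obtain ⟨W, hxW, -, e, he⟩ := Mero90.exists_affine_frame hL x ⊤ trivial
  obtain ⟨d, hd⟩ := exists_coord (Var76.Frames.ofSection L t) he
  have hd' : (fres (le_top : W.1 ≤ ⊤) g * d) • e = val L (Var76.Frames.ofSection L (g • t)) W.1 := by
    rw [mul_smul, hd, Var76.Frames.val_ofSection, Var76.Frames.val_ofSection, res_smul]
  have h1 := genLocus_inf_eq_basicOpen _ he hd'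
  have h2 := genLocus_inf_eq_basicOpen _ he hd
  rw [Scheme.basicOpen_mul] at h1
  have h3 : X.basicOpen (fres (le_top : W.1 ≤ ⊤) g) = W.1 ⊓ X.basicOpen g :=
    X.basicOpen_res g (homOfLE le_top).op
  rw [h3] at h1
  constructor
  · intro h
    have := h1.le ⟨h, hxW⟩
    exact ⟨this.1.2, (h2.ge this.2).1⟩
  · exact fun h => (h1.ge ⟨⟨hxW, h.1⟩, h2.le ⟨h.2, hxW⟩⟩).1

/-- The main theorem. -/
theorem nonempty_iso_unit [IsAffine X] (hL : PicF.IsInvertible L)
    (hfin : {x : X | IsClosed ({x} : Set X)}.Finite) :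
    Nonempty (L ≅ Coh.structureModule X) := by
  classical
  have hT : IsAffineOpen (⊤ : X.Opens) := isAffineOpen_top X
  haveI : Fintype {x : X | IsClosed ({x} : Set X)} := hfin.fintype
  have key : ∀ z : {x : X | IsClosed ({x} : Set X)}, ∃ σ : Coh.structureModule X ⟶ L,
      (z : X) ∈ CohB1.genLocus L σ ∧
        ∀ w : {x : X | IsClosed ({x} : Set X)}, w ≠ z → (w : X) ∉ CohB1.genLocus L σ := by
    intro z
    let others : Set X := {x : X | IsClosed ({x} : Set X)} \ {(z : X)}
    have hcl : IsClosed others := by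
      rw [← Set.biUnion_of_singleton others]
      exact (hfin.subset Set.diff_subset).isClosed_biUnion fun w hw => hw.1
    obtain ⟨g, hg, hzg⟩ := hT.exists_basicOpen_le (V := ⟨othersᶜ, hcl.isOpen_compl⟩)
      ⟨(z : X), fun h => h.2 rfl⟩ trivial
    obtain ⟨U, hzU, hU, hspan⟩ := spanAt_of_isQuasiAffine (Mero90.isQCoh_of_isInvertible hL) (z : X)
    obtain ⟨t, ht⟩ := exists_genLocus_of_spanAt hL hU hspan hzU
    refine ⟨Var76.Frames.ofSection L (g • t), (mem_genLocus_smul hL g t _).2 ⟨hzg, ht⟩,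
      fun w hw h => ?_⟩
    exact hg ((mem_genLocus_smul hL g t _).1 h).1 ⟨w.2, fun h' => hw (Subtype.ext h')⟩
  choose σ hσ hσ' using key
  let s := Var76.Frames.ofSection L (∑ z, val L (σ z) ⊤)
  have htop : ⊤ ≤ CohB1.genLocus L s := by
    intro x _
    obtain ⟨z, hz, hzc⟩ := (isClosed_closure (s := ({x} : Set X))).exists_closed_singleton
      ((Set.singleton_nonempty x).closure)
    have hspec : x ⤳ z := specializes_iff_mem_closure.2 hz
    refine hspec.mem_open (CohB1.genLocus L s).isOpen ?_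
    exact mem_genLocus_sum hL σ (j := ⟨z, hzc⟩) (hσ _) fun i hi => hσ' i _ (Ne.symm hi)
  exact ParaF26.nonempty_iso_unit ((isFrame_iff_le_genLocus s ⊤).2 htop)

end Groth.Agent.SemilocalPic51
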