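import Mathlib

/-! Determinant line bundles of finite locally free modules via approximate bases:
`∀ q` maximal, there are `a ∉ q` and maps in both directions composing to `a`. -/

universe u

open scoped TensorProduct

namespace NormBundle51

section approx

/-- `P` is, near every maximal ideal, isomorphic to `A^n`, witnessed by global maps. -/
def Approx (A P : Type*) [CommRing A] [AddCommGroup P] [Module A P] (n : ℕ) : Prop :=
  ∀ q : Ideal A, q.IsMaximal → ∃ a : A, a ∉ q ∧ ∃ (u : (Fin n → A) →ₗ[A] P) (v : P →ₗ[A] (Fin n → A)),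
    u ∘ₗ v = a • LinearMap.id ∧ v ∘ₗ u = a • LinearMap.id

variable {A : Type*} [CommRing A] {P : Type*} [AddCommGroup P] [Module A P]

theorem exists_smul_all {ι : Type*} [Finite ι] {N : Type*} [AddCommGroup N] [Module A N] (q : Ideal A) [q.IsPrime]
    (K : Submodule A N) (f : ι → N) (h : ∀ i, ∃ t : A, t ∉ q ∧ t • f i ∈ K) : ∃ t : A, t ∉ q ∧ ∀ i, t • f i ∈ K := by
  classical
  haveI := Fintype.ofFinite ι
  choose t ht hK using h
  refine ⟨∏ i, t i, ?_, fun i => ?_⟩
  · exact fun hc => by
      obtain ⟨i, -, hi⟩ := Ideal.IsPrime.prod_mem_iff.1 hc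
      exact ht i hi
  · rw [← Finset.mul_prod_erase Finset.univ t (Finset.mem_univ i), mul_comm, mul_smul]
    exact K.smul_mem _ (hK i)

theorem approx_of_finrank [Module.Finite A P] [Module.Projective A P] {n : ℕ}
    (hn : ∀ q : PrimeSpectrum A,
      Module.finrank (Localization.AtPrime q.asIdeal) (LocalizedModule q.asIdeal.primeCompl P) = n) :
    Approx A P n := by
  classical
  intro q hq
  let L := Localization.AtPrime q
  let f := LocalizedModule.mkLinearMap q.primeCompl P
  haveI : Module.FinitePresentation A P := Module.finitePresentation_of_projective A P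
  haveI : Module.Free L (LocalizedModule q.primeCompl P) := Module.free_of_flat_of_isLocalRing
  let b : Module.Basis (Fin n) L (LocalizedModule q.primeCompl P) :=
    Module.finBasisOfFinrankEq L _ (hn ⟨q, hq.isPrime⟩)
  have hsur : ∀ j, ∃ (x : P) (s : q.primeCompl), (s : A) • b j = f x := fun j => by
    obtain ⟨⟨x, s⟩, hx⟩ := IsLocalizedModule.surj q.primeCompl f (b j)
    exact ⟨x, s, hx⟩
  choose x s hx using hsur
  let ψ : (Fin n → A) →ₗ[A] P := Fintype.linearCombination A x
  have hψ : ∀ c : Fin n → A, f (ψ c) = ∑ j, (algebraMap A L (c j) * algebraMap A L (s j)) • b j := fun c => by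
    simp only [ψ, Fintype.linearCombination_apply, map_sum, map_smul]
    refine Finset.sum_congr rfl fun j _ => ?_
    rw [mul_smul, algebraMap_smul, algebraMap_smul, hx]
  -- the image absorbs `P` away from `q`
  have hcok : ∀ y : P, ∃ t : A, t ∉ q ∧ t • y ∈ LinearMap.range ψ := fun y => by
    have hu : ∀ j, IsUnit (algebraMap A L (s j)) := fun j => IsLocalization.map_units L (s j)
    obtain ⟨d, hd⟩ := IsLocalization.exist_integer_multiples q.primeCompl Finset.univ
      (fun j => b.repr (f y) j * ((hu j).unit⁻¹ : Lˣ))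
    choose c hc using fun j => hd j (Finset.mem_univ j)
    have h1 : f ((d : A) • y) = f (ψ c) := by
      rw [hψ, map_smul]
      conv_lhs => rw [← b.sum_repr (f y), Finset.smul_sum]
      refine Finset.sum_congr rfl fun j _ => ?_
      rw [hc j, ← smul_assoc, Algebra.smul_def, Algebra.smul_def, mul_assoc, mul_assoc,
        IsUnit.val_inv_mul, mul_one]
    obtain ⟨t, ht⟩ := IsLocalizedModule.exists_of_eq (S := q.primeCompl) (f := f) h1
    rw [Submonoid.smul_def, Submonoid.smul_def, smul_smul] at ht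
    exact ⟨t * d, (t * d).2, ⟨(t : A) • c, by rw [map_smul]; exact ht.symm⟩⟩
  have hker : ∀ c : Fin n → A, ψ c = 0 → ∃ t : A, t ∉ q ∧ t • c ∈ (⊥ : Submodule A (Fin n → A)) := fun c h0 => by
    have h1 : ∀ j, algebraMap A L (c j) = 0 := fun j => by
      have h2 := congrArg (fun z => b.repr z j) (hψ c)
      simp only [h0, map_zero, Finsupp.coe_zero, Pi.zero_apply, b.repr_sum_self] at h2
      exact (IsLocalization.map_units L (s j)).mul_left_eq_zero.1 h2.symm
    obtain ⟨t, ht, h⟩ := exists_smul_all (ι := Fin n) q (⊥ : Submodule A A) c fun j => by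
      obtain ⟨t, ht⟩ := (IsLocalization.map_eq_zero_iff q.primeCompl L (c j)).1 (h1 j)
      exact ⟨t, t.2, ht⟩
    exact ⟨t, ht, funext h⟩
  obtain ⟨m, g, hg⟩ := Module.Finite.exists_fin' A P
  obtain ⟨a, haq, ha⟩ := exists_smul_all q (LinearMap.range ψ) (fun i : Fin m => g (Pi.single i 1))
    fun i => hcok _
  have ha' : ∀ y : P, (a • LinearMap.id : P →ₗ[A] P) y ∈ LinearMap.range ψ := fun y => by
    obtain ⟨c, rfl⟩ := hg y
    rw [← (Pi.basisFun A (Fin m)).sum_repr c]
    simp only [map_sum, map_smul, Pi.basisFun_apply]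
    exact Submodule.sum_mem _ fun i _ => Submodule.smul_mem _ _ (ha i)
  obtain ⟨e, he⟩ := Module.projective_lifting_property ψ.rangeRestrict
    (LinearMap.codRestrict _ (a • LinearMap.id : P →ₗ[A] P) ha') ψ.surjective_rangeRestrict
  have hψe : ψ ∘ₗ e = a • LinearMap.id := LinearMap.ext fun y => congrArg Subtype.val (LinearMap.congr_fun he y)
  obtain ⟨a', ha'q, ha''⟩ := exists_smul_all q (⊥ : Submodule A (Fin n → A))
    (fun i : Fin n => e (ψ (Pi.single i 1)) - a • Pi.single i (1 : A)) fun i => hker _ <| by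
      rw [map_sub, map_smul]
      exact sub_eq_zero.2 (LinearMap.congr_fun hψe _)
  refine ⟨a' * a, fun h => (hq.isPrime.mem_or_mem h).elim ha'q haq, a' • ψ, e, ?_, ?_⟩
  · rw [LinearMap.smul_comp, hψe, smul_smul]
  · refine (Pi.basisFun A (Fin n)).ext fun i => ?_
    have h3 : a' • (e (ψ (Pi.single i 1)) - a • Pi.single i (1 : A)) = 0 := ha'' i
    rw [smul_sub, sub_eq_zero, smul_smul] at h3
    simpa using h3

end approx

section top

variable {A : Type*} [CommRing A] {P : Type*} [AddCommGroup P] [Module A P] {n : ℕ}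

theorem map_smul_id (a : A) :
    exteriorPower.map n (a • LinearMap.id : P →ₗ[A] P) = a ^ n • LinearMap.id := by
  refine exteriorPower.linearMap_ext (AlternatingMap.ext fun v => ?_)
  simp only [LinearMap.compAlternatingMap_apply, exteriorPower.map_apply_ιMulti, LinearMap.smul_apply,
    LinearMap.id_apply]
  show exteriorPower.ιMulti A n (fun i => a • v i) = _
  rw [AlternatingMap.map_smul_univ, Finset.prod_const, Finset.card_univ, Fintype.card_fin]

theorem map_smul_map {Q : Type*} [AddCommGroup Q] [Module A Q] (a : A) (f : P →ₗ[A] Q) :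
    exteriorPower.map n (a • f) = a ^ n • exteriorPower.map n f := by
  rw [show a • f = (a • LinearMap.id : Q →ₗ[A] Q) ∘ₗ f from rfl, exteriorPower.map_comp, map_smul_id]
  rfl

theorem top_iso_self (A : Type*) [CommRing A] (n : ℕ) : Nonempty (⋀[A]^n (Fin n → A) ≃ₗ[A] A) := by
  cases subsingleton_or_nontrivial A
  · haveI : Subsingleton (⋀[A]^n (Fin n → A)) := Module.subsingleton A _
    exact ⟨LinearEquiv.ofSubsingleton _ _⟩
  · exact Module.nonempty_linearEquiv_of_finrank_eq_one (by simp [exteriorPower.finrank_eq]) |>.map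
      fun e => e.symm

theorem exists_cover {ι : Type*} (a : ι → A) (h : ∀ q : Ideal A, q.IsMaximal → ∃ i, a i ∉ q) (N : ℕ) :
    Ideal.span (Set.range fun i => a i ^ N) = ⊤ := by
  by_contra hne
  obtain ⟨q, hq, hle⟩ := Ideal.exists_le_maximal _ hne
  obtain ⟨i, hi⟩ := h q hq
  exact hi (hq.isPrime.mem_of_pow_mem N (hle (Ideal.subset_span ⟨i, rfl⟩)))

theorem exists_scalar (hP : Approx A P n) (T : ⋀[A]^n P →ₗ[A] ⋀[A]^n P) :
    ∃ c : A, T = c • LinearMap.id := by
  classical
  obtain ⟨e⟩ := top_iso_self A n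
  choose a ha u v huv hvu using hP
  let b : {q : Ideal A // q.IsMaximal} → A := fun q => a q.1 q.2
  have key : ∀ q : {q : Ideal A // q.IsMaximal}, ∃ c : A, b q ^ (n + n) • T = c • LinearMap.id := fun q => by
    let U := exteriorPower.map n (u q.1 q.2) ∘ₗ e.symm.toLinearMap
    let V := e.toLinearMap ∘ₗ exteriorPower.map n (v q.1 q.2)
    have hUV : ∀ z, U (V z) = b q ^ n • z := fun z => by
      have := LinearMap.congr_fun ((exteriorPower.map_comp (n := n) (v q.1 q.2) (u q.1 q.2)).symm.trans
        ((congrArg _ (huv q.1 q.2)).trans (map_smul_id _))) z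
      simpa [U, V] using this
    refine ⟨V (T (U 1)) * b q ^ n, LinearMap.ext fun z => ?_⟩
    have h1 : U (V (T (U (V z)))) = V (T (U 1)) • U (V z) := by
      have h2 : V (T (U (V z))) = V z • V (T (U 1)) := by
        rw [← map_smul, ← map_smul, ← map_smul, smul_eq_mul, mul_one]
      rw [h2, smul_eq_mul, mul_comm, ← smul_eq_mul, map_smul]
    rw [hUV, hUV, map_smul, smul_smul, ← pow_add, smul_smul] at h1
    exact h1
  choose c hc using key
  have htop := exists_cover b (fun q hq => ⟨⟨q, hq⟩, ha q hq⟩) (n + n)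
  obtain ⟨w, hw⟩ := (Finsupp.mem_span_range_iff_exists_finsupp).1 (htop ▸ Submodule.mem_top : (1 : A) ∈ _)
  refine ⟨w.sum fun q r => r * c q, ?_⟩
  calc T = (w.sum fun q r => r • b q ^ (n + n)) • T := by rw [hw, one_smul]
    _ = _ := by
      rw [Finsupp.sum, Finsupp.sum, Finset.sum_smul, Finset.sum_smul]
      exact Finset.sum_congr rfl fun q _ => by rw [smul_assoc, hc, smul_smul]

end top

section glue

variable {A : Type*} [CommRing A] {P Q : Type*} [AddCommGroup P] [Module A P] [AddCommGroup Q] [Module A Q]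

theorem exists_equiv_of_local {ι : Type*} (c d : ι → A) (hc : Ideal.span (Set.range c) = ⊤)
    (hd : Ideal.span (Set.range d) = ⊤) (G : ι → P →ₗ[A] Q) (H : ι → Q →ₗ[A] P)
    (hGH : ∀ i, G i ∘ₗ H i = d i • LinearMap.id) (hHG : ∀ i, H i ∘ₗ G i = d i • LinearMap.id)
    (hcompat : ∀ i j, c j • G i = c i • G j) : Nonempty (P ≃ₗ[A] Q) := by
  obtain ⟨w, hw⟩ := (Finsupp.mem_span_range_iff_exists_finsupp).1 (hc ▸ Submodule.mem_top : (1 : A) ∈ _)
  let F : P →ₗ[A] Q := w.sum fun i r => r • G i
  have hF : ∀ j, c j • F = G j := fun j => by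
    calc c j • F = (w.sum fun i r => r • c i) • G j := by
          simp only [F, Finsupp.sum, Finset.smul_sum, Finset.sum_smul, smul_assoc]
          exact Finset.sum_congr rfl fun i _ => by rw [smul_comm, hcompat]
      _ = G j := by rw [hw, one_smul]
  obtain ⟨t, ht⟩ := (Finsupp.mem_span_range_iff_exists_finsupp).1 (hd ▸ Submodule.mem_top : (1 : A) ∈ _)
  refine ⟨LinearEquiv.ofBijective F ⟨?_, ?_⟩⟩
  · refine (injective_iff_map_eq_zero F).2 fun x hx => ?_
    have h1 : ∀ i, d i • x = 0 := fun i => by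
      have := LinearMap.congr_fun (hHG i) x
      simp only [LinearMap.comp_apply, ← hF i, LinearMap.smul_apply, hx, smul_zero, map_zero,
        LinearMap.id_apply] at this
      exact this.symm
    calc x = (t.sum fun i r => r • d i) • x := by rw [ht, one_smul]
      _ = 0 := by simp [-smul_eq_mul, Finsupp.sum, Finset.sum_smul, smul_assoc, h1]
  · intro y
    refine ⟨t.sum fun i r => r • c i • H i y, ?_⟩
    have h1 : ∀ i, c i • F (H i y) = d i • y := fun i => by
      rw [← LinearMap.smul_apply, hF]; exact LinearMap.congr_fun (hGH i) y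
    calc F (t.sum fun i r => r • c i • H i y) = t.sum fun i r => r • d i • y := by
          simp only [Finsupp.sum, map_sum, map_smul, h1]
      _ = (t.sum fun i r => r • d i) • y := by simp only [Finsupp.sum, Finset.sum_smul, smul_assoc]
      _ = y := by rw [ht, one_smul]

end glue

section gluetwo

variable {A : Type*} [CommRing A] {P₁ P₂ E F : Type*} [AddCommGroup P₁] [Module A P₁] [AddCommGroup P₂]
  [Module A P₂] [AddCommGroup E] [Module A E] [AddCommGroup F] [Module A F]

theorem exists_equiv_tensor {ι : Type*} (k : ι → A) (hk : Ideal.span (Set.range fun i => k i ^ 2) = ⊤)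
    (hk' : Ideal.span (Set.range fun i => k i ^ 4) = ⊤)
    (u : ι → E →ₗ[A] P₁) (v : ι → P₁ →ₗ[A] E) (w : ι → E →ₗ[A] P₂) (z : ι → P₂ →ₗ[A] E)
    (s : ι → E →ₗ[A] F) (t : ι → F →ₗ[A] E)
    (huv : ∀ i, u i ∘ₗ v i = k i • LinearMap.id) (hvu : ∀ i, v i ∘ₗ u i = k i • LinearMap.id)
    (hwz : ∀ i, w i ∘ₗ z i = k i • LinearMap.id) (hzw : ∀ i, z i ∘ₗ w i = k i • LinearMap.id)
    (hst : ∀ i, s i ∘ₗ t i = k i ^ 2 • LinearMap.id) (hts : ∀ i, t i ∘ₗ s i = k i ^ 2 • LinearMap.id)
    (hcompat : ∀ i j, ∃ c c' : A, v j ∘ₗ u i = c • LinearMap.id ∧ z j ∘ₗ w i = c' • LinearMap.id ∧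
      (c * c') • s j = k j ^ 2 • s i) :
    Nonempty (E ⊗[A] F ≃ₗ[A] P₁ ⊗[A] P₂) := by
  obtain ⟨e⟩ := exists_equiv_of_local (P := P₁ ⊗[A] P₂) (Q := E ⊗[A] F) (fun i => k i ^ 2) (fun i => k i ^ 4) hk hk'
    (fun i => TensorProduct.map LinearMap.id (s i) ∘ₗ TensorProduct.map (v i) (z i))
    (fun i => TensorProduct.map (u i) (w i) ∘ₗ TensorProduct.map LinearMap.id (t i))
    (fun i => TensorProduct.ext' fun x y => by
      have h1 := LinearMap.congr_fun (hvu i) x
      have h2 := LinearMap.congr_fun (hzw i) (t i y)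
      have h3 := LinearMap.congr_fun (hst i) y
      simp only [LinearMap.comp_apply, LinearMap.smul_apply, LinearMap.id_apply] at h1 h2 h3
      simp only [LinearMap.comp_apply, TensorProduct.map_tmul, LinearMap.id_apply, LinearMap.smul_apply, h1, h2,
        map_smul, h3, TensorProduct.tmul_smul, ← TensorProduct.smul_tmul', smul_smul]
      congr 1; ring)
    (fun i => TensorProduct.ext' fun x y => by
      have h1 := LinearMap.congr_fun (huv i) x
      have h2 := LinearMap.congr_fun (hwz i) y
      have h3 := LinearMap.congr_fun (hts i) (z i y)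
      simp only [LinearMap.comp_apply, LinearMap.smul_apply, LinearMap.id_apply] at h1 h2 h3
      simp only [LinearMap.comp_apply, TensorProduct.map_tmul, LinearMap.id_apply, LinearMap.smul_apply, h1, h2,
        map_smul, h3, TensorProduct.tmul_smul, ← TensorProduct.smul_tmul', smul_smul]
      congr 1; ring)
    (fun i j => TensorProduct.ext' fun x y => by
      obtain ⟨c, c', hc, hc', hcc⟩ := hcompat j i
      have h1 := LinearMap.congr_fun (huv j) x
      have h2 := LinearMap.congr_fun (hwz j) y
      have h3 := LinearMap.congr_fun hc (v j x)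
      have h4 := LinearMap.congr_fun hc' (z j y)
      have h5 := LinearMap.congr_fun hcc (z j y)
      simp only [LinearMap.comp_apply, LinearMap.smul_apply, LinearMap.id_apply] at h1 h2 h3 h4 h5
      rw [h1, map_smul] at h3
      rw [h2, map_smul] at h4
      simp only [LinearMap.comp_apply, TensorProduct.map_tmul, LinearMap.id_apply, LinearMap.smul_apply]
      calc k j ^ 2 • (v i x ⊗ₜ[A] s i (z i y)) = (k j • v i x) ⊗ₜ[A] s i (k j • z i y) := by
            rw [map_smul, TensorProduct.smul_tmul_smul, pow_two]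
        _ = (c • v j x) ⊗ₜ[A] s i (c' • z j y) := by rw [h3, h4]
        _ = v j x ⊗ₜ[A] ((c * c') • s i (z j y)) := by
            rw [map_smul, TensorProduct.smul_tmul_smul, TensorProduct.tmul_smul]
        _ = k i ^ 2 • (v j x ⊗ₜ[A] s j (z j y)) := by rw [h5, TensorProduct.tmul_smul])
  exact ⟨e.symm⟩

end gluetwo

section line

variable {A B : Type*} [CommRing A] [CommRing B] [Algebra A B] [Module.Finite A B]
variable {M : Type*} [AddCommGroup M] [Module B M] [Module A M] [IsScalarTower A B M] [Module.Finite B M]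

theorem finite_maximal_over (q : Ideal A) (hq : q.IsMaximal) :
    Finite {m : MaximalSpectrum B // q.map (algebraMap A B) ≤ m.asIdeal} := by
  letI := Ideal.Quotient.field q
  haveI : Module.Finite (A ⧸ q) (B ⧸ q.map (algebraMap A B)) := Module.Finite.of_restrictScalars_finite A (A ⧸ q) _
  haveI : IsArtinianRing (B ⧸ q.map (algebraMap A B)) := IsArtinianRing.of_finite (A ⧸ q) _
  refine Finite.of_injective (β := MaximalSpectrum (B ⧸ q.map (algebraMap A B)))
    (fun m => ⟨m.1.asIdeal.map (Ideal.Quotient.mk _),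
      Ideal.IsMaximal.map_of_surjective_of_ker_le Ideal.Quotient.mk_surjective (by simpa using m.2)⟩) ?_
  intro m m' h
  refine Subtype.ext (MaximalSpectrum.ext ?_)
  have h' := congrArg (fun x => Ideal.comap (Ideal.Quotient.mk (q.map (algebraMap A B))) x.asIdeal) h
  simpa [Ideal.comap_map_of_surjective _ Ideal.Quotient.mk_surjective, ← RingHom.ker_eq_comap_bot, m.2, m'.2] using h'

/-- Near every maximal ideal of `A`, `M` has a single generator with a global quasi-inverse. -/
theorem exists_gen (hM : Approx B M 1) (q : Ideal A) (hq : q.IsMaximal) :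
    ∃ a : A, a ∉ q ∧ ∃ (e : M) (v : M →ₗ[B] B),
      v e = algebraMap A B a ∧ ∀ x, v x • e = a • x := by
  classical
  -- local coordinates at every maximal ideal of `B`
  have hloc : ∀ m : Ideal B, m.IsMaximal → ∃ b : B, b ∉ m ∧ ∃ (g : M) (f : M →ₗ[B] B),
      f g = b ∧ ∀ x, f x • g = b • x := fun m hm => by
    obtain ⟨b, hb, u, v, huv, hvu⟩ := hM m hm
    refine ⟨b, hb, u (fun _ => 1), LinearMap.proj 0 ∘ₗ v, ?_, fun x => ?_⟩
    · simpa using congrFun (LinearMap.congr_fun hvu fun _ => 1) 0
    · have h1 : v x = v x 0 • fun _ => (1 : B) := funext fun i => by simp [Subsingleton.elim i 0]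
      have h2 := LinearMap.congr_fun huv x
      rw [LinearMap.comp_apply, h1, map_smul] at h2
      simpa using h2
  choose b hb g f hfg hgx using hloc
  let S := {m : MaximalSpectrum B // q.map (algebraMap A B) ≤ m.asIdeal}
  haveI : Finite S := finite_maximal_over q hq
  haveI := Fintype.ofFinite S
  have hsep : ∀ j k : S, j ≠ k → ∃ x, x ∈ k.1.asIdeal ∧ x ∉ j.1.asIdeal := fun j k hjk =>
    SetLike.not_le_iff_exists.1 fun h => hjk (Subtype.ext (MaximalSpectrum.ext
      (k.1.isMaximal.eq_of_le j.1.isMaximal.ne_top h).symm))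
  choose x hxk hxj using hsep
  let ε : S → B := fun j => ∏ k, if h : j = k then 1 else x j k h
  have hεj : ∀ j, ε j ∉ j.1.asIdeal := fun j hc => by
    obtain ⟨k, -, hk⟩ := (j.1.isMaximal.isPrime.prod_mem_iff).1 hc
    by_cases h : j = k
    · rw [dif_pos h] at hk; exact j.1.isMaximal.ne_top ((Ideal.eq_top_iff_one _).2 hk)
    · rw [dif_neg h] at hk; exact hxj j k h hk
  have hεk : ∀ j k, j ≠ k → ε j ∈ k.1.asIdeal := fun j k h =>
    Ideal.prod_mem _ (Finset.mem_univ k) (by rw [dif_neg h]; exact hxk j k h)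
  let e : M := ∑ j : S, ε j • g j.1.asIdeal j.1.isMaximal
  have he : ∀ k : S, f k.1.asIdeal k.1.isMaximal e ∉ k.1.asIdeal := fun k hc => by
    simp only [e, map_sum, map_smul] at hc
    rw [← Finset.add_sum_erase _ _ (Finset.mem_univ k), hfg] at hc
    rw [Ideal.add_mem_iff_left _ (Ideal.sum_mem _ fun j hj => by
      exact Ideal.mul_mem_right _ _ (hεk j k (Finset.ne_of_mem_erase hj)))] at hc
    exact (k.1.isMaximal.isPrime.mem_or_mem hc).elim (hεj k) (hb _ _)
  -- the annihilator of `M ⧸ B e` avoids every maximal ideal over `q`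
  let J : Ideal B := Submodule.colon (Submodule.span B {e}) Set.univ
  have hJ : J ⊔ q.map (algebraMap A B) = ⊤ := by
    by_contra hne
    obtain ⟨m, hm, hle⟩ := Ideal.exists_le_maximal _ hne
    let k : S := ⟨⟨m, hm⟩, le_sup_right.trans hle⟩
    have hmem : b m hm * f m hm e ∈ J := Submodule.mem_colon.2 fun y _ => by
      have h1 : (b m hm * f m hm e) • y = (b m hm * f m hm y) • e := by
        have h2 : f m hm e • (b m hm • y) = f m hm y • (b m hm • e) := by
          rw [← hgx m hm, ← hgx m hm, smul_comm]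
        rw [mul_comm, mul_smul, h2, mul_comm (b m hm), mul_smul]
      rw [h1]; exact Submodule.smul_mem _ _ (Submodule.mem_span_singleton_self e)
    exact (hm.isPrime.mem_or_mem (hle (Ideal.mem_sup_left hmem))).elim (hb m hm) (he k)
  haveI : Module.Finite A M := Module.Finite.trans B M
  let N := M ⧸ (Submodule.span B {e}).restrictScalars A
  have hz : ∀ z ∈ q.map (algebraMap A B), ∀ y : M,
      (Submodule.Quotient.mk (z • y) : N) ∈ q • (⊤ : Submodule A N) := fun z hz => by
    induction hz using Submodule.span_induction with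
    | mem z hz =>
      obtain ⟨c, hc, rfl⟩ := hz
      intro y
      rw [algebraMap_smul, Submodule.Quotient.mk_smul]
      exact Submodule.smul_mem_smul hc Submodule.mem_top
    | zero => intro y; simp
    | add z z' _ _ h h' => intro y; rw [add_smul, Submodule.Quotient.mk_add]; exact add_mem (h y) (h' y)
    | smul d z _ h => intro y; rw [smul_eq_mul, mul_comm, mul_smul]; exact h _
  have hN : (⊤ : Submodule A N) ≤ q • ⊤ := fun w _ => by
    obtain ⟨y, rfl⟩ := Submodule.Quotient.mk_surjective _ w
    obtain ⟨j, hj, z, hzq, hjz⟩ := Submodule.mem_sup.1 (hJ ▸ Submodule.mem_top : (1 : B) ∈ _)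
    have h0 : (Submodule.Quotient.mk (j • y) : N) = 0 :=
      (Submodule.Quotient.mk_eq_zero _).2 (Submodule.mem_colon.1 hj y (Set.mem_univ y))
    have h1 : (Submodule.Quotient.mk y : N) = Submodule.Quotient.mk (j • y) + Submodule.Quotient.mk (z • y) := by
      rw [← Submodule.Quotient.mk_add, ← add_smul, hjz, one_smul]
    rw [h1, h0, zero_add]
    exact hz z hzq y
  obtain ⟨r, hr, hr0⟩ := Submodule.exists_sub_one_mem_and_smul_eq_zero_of_fg_of_le_smul q ⊤ Module.Finite.fg_top hN
  have hrq : r ∉ q := fun h => hq.ne_top ((Ideal.eq_top_iff_one _).2 (by simpa using q.sub_mem h hr))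
  have hex : ∀ y : M, ∃ c : B, c • e = r • y := fun y => by
    have := hr0 (Submodule.Quotient.mk y) Submodule.mem_top
    rw [← Submodule.Quotient.mk_smul, Submodule.Quotient.mk_eq_zero, Submodule.restrictScalars_mem,
      Submodule.mem_span_singleton] at this
    exact this
  -- `r` kills the annihilator of `e`
  have huniq : ∀ c : B, c • e = 0 → r • c = 0 := fun c hc => by
    by_contra hne
    have hp : LinearMap.ker (LinearMap.toSpanSingleton B B (r • c)) ≠ ⊤ := fun h => hne (by
      have : (1 : B) ∈ LinearMap.ker (LinearMap.toSpanSingleton B B (r • c)) := h ▸ Submodule.mem_top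
      simpa using this)
    obtain ⟨m, hm, hle⟩ := Ideal.exists_le_maximal _ hp
    refine hb m hm (hle ?_)
    obtain ⟨d, hd⟩ := hex (g m hm)
    have h1 : (r • c) • g m hm = 0 := by
      rw [smul_assoc, smul_comm, ← hd, smul_smul, mul_comm, mul_smul, hc, smul_zero]
    show b m hm • (r • c) = 0
    rw [smul_eq_mul, mul_comm, ← hfg m hm, ← smul_eq_mul, ← map_smul, h1, map_zero]
  choose cf hcf using hex
  refine ⟨r * r, fun h => (hq.isPrime.mem_or_mem h).elim hrq hrq, e,
    { toFun := fun y => r • cf y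
      map_add' := fun y z => ?_
      map_smul' := fun d y => ?_ }, ?_, fun y => ?_⟩
  · rw [← sub_eq_zero, ← smul_add, ← smul_sub]
    exact huniq _ (by rw [sub_smul, add_smul, hcf, hcf, hcf, smul_add, sub_self])
  · rw [← sub_eq_zero, RingHom.id_apply, smul_comm d, ← smul_sub]
    exact huniq _ (by rw [sub_smul, smul_assoc, hcf, hcf, smul_comm, sub_self])
  · show r • cf e = _
    rw [← sub_eq_zero, Algebra.algebraMap_eq_smul_one, mul_smul, ← smul_sub]
    exact huniq _ (by rw [sub_smul, hcf, smul_assoc, one_smul, sub_self])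
  · show (r • cf y) • e = _
    rw [smul_assoc, hcf, smul_smul]

end line

end NormBundle51
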