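import Groth.Agent.Small51.NormBundle

/-! Invertible modules described by compatible local frames, and frames of determinant lines. -/

open scoped TensorProduct

namespace NormBundle51

section kill

variable {A B : Type*} [CommRing A] [CommRing B] [Algebra A B] [Module.Finite A B]
variable {N : Type*} [AddCommGroup N] [Module B N] [Module A N] [IsScalarTower A B N] [Module.Finite B N]

/-- If the annihilator of `N` meets the complement of every prime over `q`, something outside `q` kills `N`. -/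
theorem exists_kill (q : Ideal A) (hq : q.IsMaximal)
    (h : ∀ m : MaximalSpectrum B, q.map (algebraMap A B) ≤ m.asIdeal → ∃ c, c ∉ m.asIdeal ∧ ∀ y : N, c • y = 0) :
    ∃ r : A, r ∉ q ∧ ∀ y : N, r • y = 0 := by
  haveI : Module.Finite A N := Module.Finite.trans B N
  have htop : Module.annihilator B N ⊔ q.map (algebraMap A B) = ⊤ := by
    by_contra hne
    obtain ⟨m, hm, hle⟩ := Ideal.exists_le_maximal _ hne
    obtain ⟨c, hc, hc0⟩ := h ⟨m, hm⟩ (le_sup_right.trans hle)
    exact hc (hle (Ideal.mem_sup_left (Module.mem_annihilator.2 hc0)))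
  have hz : ∀ z ∈ q.map (algebraMap A B), ∀ y : N, z • y ∈ q • (⊤ : Submodule A N) := fun z hz => by
    induction hz using Submodule.span_induction with
    | mem z hz =>
      obtain ⟨c, hc, rfl⟩ := hz
      intro y
      rw [algebraMap_smul]
      exact Submodule.smul_mem_smul hc Submodule.mem_top
    | zero => intro y; simp
    | add z z' _ _ h h' => intro y; rw [add_smul]; exact add_mem (h y) (h' y)
    | smul d z _ h => intro y; rw [smul_eq_mul, mul_comm, mul_smul]; exact h _
  have hN : (⊤ : Submodule A N) ≤ q • ⊤ := fun y _ => by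
    obtain ⟨j, hj, z, hzq, hjz⟩ := Submodule.mem_sup.1 (htop ▸ Submodule.mem_top : (1 : B) ∈ _)
    rw [← one_smul B y, ← hjz, add_smul, Module.mem_annihilator.1 hj y, zero_add]
    exact hz z hzq y
  obtain ⟨r, hr, hr0⟩ :=
    Submodule.exists_sub_one_mem_and_smul_eq_zero_of_fg_of_le_smul q ⊤ Module.Finite.fg_top hN
  exact ⟨r, fun h => hq.ne_top ((Ideal.eq_top_iff_one _).2 (by simpa using q.sub_mem h hr)),
    fun y => hr0 y Submodule.mem_top⟩

end kill

section semilocal

variable {A B : Type*} [CommRing A] [CommRing B] [Algebra A B] [Module.Finite A B]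
variable {M : Type*} [AddCommGroup M] [Module B M] [Module A M] [IsScalarTower A B M]

/-- A projective `B`-module with bases near every point of `B` has global maps forming a basis near every point of `A`. -/
theorem exists_basis [Module.Finite B M] [Module.Projective B M] {k : ℕ} (hM : Approx B M k)
    (q : Ideal A) (hq : q.IsMaximal) :
    ∃ a : A, a ∉ q ∧ ∃ (U : (Fin k → B) →ₗ[B] M) (V : M →ₗ[B] (Fin k → B)),
      (∀ x, U (V x) = a • x) ∧ ∀ c, V (U c) = a • c := by
  classical
  choose b hb u v huv hvu using hM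
  let S := {m : MaximalSpectrum B // q.map (algebraMap A B) ≤ m.asIdeal}
  haveI : Finite S := finite_maximal_over q hq
  haveI := Fintype.ofFinite S
  have hsep : ∀ j l : S, j ≠ l → ∃ x, x ∈ l.1.asIdeal ∧ x ∉ j.1.asIdeal := fun j l hjl =>
    SetLike.not_le_iff_exists.1 fun h => hjl (Subtype.ext (MaximalSpectrum.ext
      (l.1.isMaximal.eq_of_le j.1.isMaximal.ne_top h).symm))
  choose x hxl hxj using hsep
  let ε : S → B := fun j => ∏ l, if h : j = l then 1 else x j l h
  have hεj : ∀ j, ε j ∉ j.1.asIdeal := fun j hc => by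
    obtain ⟨l, -, hl⟩ := (j.1.isMaximal.isPrime.prod_mem_iff).1 hc
    by_cases h : j = l
    · rw [dif_pos h] at hl; exact j.1.isMaximal.ne_top ((Ideal.eq_top_iff_one _).2 hl)
    · rw [dif_neg h] at hl; exact hxj j l h hl
  have hεl : ∀ j l, j ≠ l → ε j ∈ l.1.asIdeal := fun j l h =>
    Ideal.prod_mem _ (Finset.mem_univ l) (by rw [dif_neg h]; exact hxl j l h)
  let U : (Fin k → B) →ₗ[B] M := ∑ j : S, ε j • u j.1.asIdeal j.1.isMaximal
  let G : S → Matrix (Fin k) (Fin k) B := fun j =>
    LinearMap.toMatrix' (v j.1.asIdeal j.1.isMaximal ∘ₗ U)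
  have hD : ∀ j, (G j).det ∉ j.1.asIdeal := fun j hc => by
    let π := Ideal.Quotient.mk j.1.asIdeal
    haveI := j.1.isMaximal
    letI := Ideal.Quotient.field j.1.asIdeal
    have hG : π.mapMatrix (G j) = π (ε j * b j.1.asIdeal j.1.isMaximal) • (1 : Matrix (Fin k) (Fin k) _) := by
      have hsum : v j.1.asIdeal j.1.isMaximal ∘ₗ U = (ε j * b j.1.asIdeal j.1.isMaximal) • LinearMap.id +
          ∑ l ∈ Finset.univ.erase j, ε l • (v j.1.asIdeal j.1.isMaximal ∘ₗ u l.1.asIdeal l.1.isMaximal) := by
        refine LinearMap.ext fun c => ?_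
        have := LinearMap.congr_fun (hvu j.1.asIdeal j.1.isMaximal) c
        simp only [LinearMap.comp_apply, LinearMap.smul_apply, LinearMap.id_apply] at this
        simp only [U, LinearMap.comp_apply, LinearMap.sum_apply, LinearMap.smul_apply, LinearMap.add_apply, map_sum,
          map_smul, LinearMap.id_apply]
        rw [← Finset.add_sum_erase _ _ (Finset.mem_univ j), this, smul_smul]
      ext r s
      simp only [G, hsum, map_add, map_sum, map_smul, LinearMap.toMatrix'_id, RingHom.mapMatrix_apply,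
        Matrix.map_apply, Matrix.add_apply, Matrix.sum_apply, Matrix.smul_apply, smul_eq_mul]
      rw [Finset.sum_eq_zero fun l hl => ?_, add_zero]
      · by_cases hrs : r = s <;> simp [hrs, Matrix.one_apply]
      · rw [map_mul, Ideal.Quotient.eq_zero_iff_mem.2 (hεl l j (Finset.ne_of_mem_erase hl)), zero_mul]
    have h0 : π (G j).det = 0 := Ideal.Quotient.eq_zero_iff_mem.2 hc
    rw [RingHom.map_det, hG, Matrix.det_smul, Matrix.det_one, mul_one] at h0
    exact (j.1.isMaximal.isPrime.mem_or_mem (Ideal.Quotient.eq_zero_iff_mem.1 (pow_eq_zero_iff'.1 h0).1)).elim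
      (hεj j) (hb _ _)
  have hadj : ∀ j (c : Fin k → B), v j.1.asIdeal j.1.isMaximal (U (Matrix.mulVec (G j).adjugate c)) = (G j).det • c :=
    fun j c => by
      rw [← LinearMap.comp_apply (v _ _), ← LinearMap.toMatrix'_mulVec (v _ _ ∘ₗ U), Matrix.mulVec_mulVec,
        Matrix.mul_adjugate, Matrix.smul_mulVec, Matrix.one_mulVec]
  -- the cokernel
  obtain ⟨r, hrq, hr⟩ := exists_kill (B := B) (N := M ⧸ LinearMap.range U) q hq fun m hm => by
    let j : S := ⟨m, hm⟩
    refine ⟨b m.asIdeal m.isMaximal * (G j).det,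
      fun h => (m.isMaximal.isPrime.mem_or_mem h).elim (hb _ _) (hD j), fun y => ?_⟩
    obtain ⟨y, rfl⟩ := Submodule.Quotient.mk_surjective _ y
    rw [← Submodule.Quotient.mk_smul, Submodule.Quotient.mk_eq_zero]
    refine ⟨Matrix.mulVec (G j).adjugate (b m.asIdeal m.isMaximal • v m.asIdeal m.isMaximal y), ?_⟩
    have h1 : ∀ z, b m.asIdeal m.isMaximal • z = u m.asIdeal m.isMaximal (v m.asIdeal m.isMaximal z) :=
      fun z => (LinearMap.congr_fun (huv m.asIdeal m.isMaximal) z).symm
    rw [Matrix.mulVec_smul, map_smul, h1, hadj j, map_smul, ← h1, smul_smul]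
    congr 1
    ring
  have hr' : ∀ y : M, (algebraMap A B r • LinearMap.id : M →ₗ[B] M) y ∈ LinearMap.range U := fun y =>
    (Submodule.Quotient.mk_eq_zero _).1 (by
      rw [LinearMap.smul_apply, LinearMap.id_apply, algebraMap_smul, Submodule.Quotient.mk_smul]
      exact hr _)
  obtain ⟨e, he⟩ := Module.projective_lifting_property U.rangeRestrict
    (LinearMap.codRestrict _ (algebraMap A B r • LinearMap.id : M →ₗ[B] M) hr') U.surjective_rangeRestrict
  have hUe : ∀ y, U (e y) = r • y := fun y =>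
    (congrArg Subtype.val (LinearMap.congr_fun he y)).trans (algebraMap_smul B r y)
  -- the kernel
  obtain ⟨r', hrq', hr''⟩ := exists_smul_all (A := A) q (⊥ : Submodule A (Fin k → B))
      (fun i : Fin k => e (U (Pi.single i 1)) - algebraMap A B r • Pi.single i (1 : B)) fun i => by
    set c := e (U (Pi.single i 1)) - algebraMap A B r • Pi.single i (1 : B) with hc
    have hUc : U c = 0 := by
      rw [hc, map_sub, hUe, map_smul, algebraMap_smul, sub_self]
    obtain ⟨t, ht, ht0⟩ := exists_kill (B := B) (N := Submodule.span B {c}) q hq fun m hm => by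
      refine ⟨(G ⟨m, hm⟩).det, hD ⟨m, hm⟩, fun z => Subtype.ext ?_⟩
      obtain ⟨d, hd⟩ := Submodule.mem_span_singleton.1 z.2
      have h1 : Matrix.mulVec (G ⟨m, hm⟩) (z : Fin k → B) = 0 := by
        rw [LinearMap.toMatrix'_mulVec, LinearMap.comp_apply, ← hd, map_smul, hUc, smul_zero, map_zero]
      have h2 := congrArg (Matrix.mulVec (G ⟨m, hm⟩).adjugate) h1
      rw [Matrix.mulVec_mulVec, Matrix.adjugate_mul, Matrix.smul_mulVec, Matrix.one_mulVec, Matrix.mulVec_zero] at h2
      exact h2
    exact ⟨t, ht, congrArg Subtype.val (ht0 ⟨c, Submodule.mem_span_singleton_self c⟩)⟩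
  refine ⟨r' * r, fun h => (hq.isPrime.mem_or_mem h).elim hrq' hrq, algebraMap A B r' • U, e, fun y => ?_, ?_⟩
  · rw [LinearMap.smul_apply, hUe, algebraMap_smul, smul_smul]
  · have h : e ∘ₗ (algebraMap A B r' • U) = algebraMap A B (r' * r) • LinearMap.id := by
      refine (Pi.basisFun B (Fin k)).ext fun i => ?_
      have h3 : r' • (e (U (Pi.single i 1)) - algebraMap A B r • Pi.single i (1 : B)) = 0 := hr'' i
      rw [smul_sub, sub_eq_zero] at h3
      simp only [algebraMap_smul] at h3
      simp only [Pi.basisFun_apply, LinearMap.comp_apply, LinearMap.smul_apply, map_smul, LinearMap.id_apply,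
        algebraMap_smul, LinearMap.map_smul_of_tower, h3, mul_smul]
    exact fun c => (LinearMap.congr_fun h c).trans (algebraMap_smul B (r' * r) c)

end semilocal

section frames

variable {A : Type*} [CommRing A] {ι : Type*}

/-- `X` has frames `p i` with scalings `k` and transition scalars `σ`. -/
def Frames (X : Type*) [AddCommGroup X] [Module A X] (k : ι → A) (σ : ι → ι → A) : Prop :=
  ∃ (p : ι → X) (p' : ι → X →ₗ[A] A),
    (∀ i, p' i (p i) = k i) ∧ (∀ i x, p' i x • p i = k i • x) ∧ ∀ i j, p' j (p i) = σ i j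

variable {X Y : Type*} [AddCommGroup X] [Module A X] [AddCommGroup Y] [Module A Y]

theorem Frames.equiv {k : ι → A} {σ : ι → ι → A} (hX : Frames X k σ) (hY : Frames Y k σ)
    (hk : Ideal.span (Set.range k) = ⊤) (hk' : Ideal.span (Set.range fun i => k i ^ 2) = ⊤) :
    Nonempty (X ≃ₗ[A] Y) := by
  obtain ⟨p, p', hp₁, hp₂, hp₃⟩ := hX
  obtain ⟨q, q', hq₁, hq₂, hq₃⟩ := hY
  refine exists_equiv_of_local k (fun i => k i ^ 2) hk hk' (fun i => (p' i).smulRight (q i))
    (fun i => (q' i).smulRight (p i)) (fun i => LinearMap.ext fun y => ?_) (fun i => LinearMap.ext fun x => ?_)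
    fun i j => LinearMap.ext fun x => ?_
  · simp only [LinearMap.comp_apply, LinearMap.smulRight_apply, map_smul, hp₁, LinearMap.smul_apply,
      LinearMap.id_apply]
    rw [smul_comm, hq₂, smul_smul, pow_two]
  · simp only [LinearMap.comp_apply, LinearMap.smulRight_apply, map_smul, hq₁, LinearMap.smul_apply,
      LinearMap.id_apply]
    rw [smul_comm, hp₂, smul_smul, pow_two]
  · simp only [LinearMap.smul_apply, LinearMap.smulRight_apply]
    calc k j • p' i x • q i = p' i (k j • x) • q i := by rw [map_smul, smul_assoc]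
      _ = p' j x • (σ j i • q i) := by rw [← hp₂ j, map_smul, hp₃, smul_assoc]
      _ = k i • p' j x • q j := by rw [← hq₃ j i, hq₂, smul_comm]

theorem Frames.tensor {k l : ι → A} {σ τ : ι → ι → A} (hX : Frames X k σ) (hY : Frames Y l τ) :
    Frames (X ⊗[A] Y) (fun i => k i * l i) (fun i j => σ i j * τ i j) := by
  obtain ⟨p, p', hp₁, hp₂, hp₃⟩ := hX
  obtain ⟨q, q', hq₁, hq₂, hq₃⟩ := hY
  refine ⟨fun i => p i ⊗ₜ q i, fun i => (TensorProduct.lid A A).toLinearMap ∘ₗ TensorProduct.map (p' i) (q' i),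
    fun i => by simp [hp₁, hq₁], fun i x => ?_, fun i j => by simp [hp₃, hq₃]⟩
  induction x using TensorProduct.induction_on with
  | zero => simp
  | add x y hx hy => simp only [map_add, add_smul, smul_add, hx, hy]
  | tmul x y =>
    simp only [LinearMap.comp_apply, LinearEquiv.coe_coe, TensorProduct.map_tmul, TensorProduct.lid_tmul,
      smul_eq_mul]
    rw [← TensorProduct.smul_tmul_smul, hp₂, hq₂, TensorProduct.smul_tmul_smul]

theorem Frames.tensorPower {k : ι → A} {σ : ι → ι → A} (hX : Frames X k σ) (d : ℕ) :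
    Frames (TensorPower A d X) (fun i => k i ^ d) (fun i j => σ i j ^ d) := by
  obtain ⟨p, p', hp₁, hp₂, hp₃⟩ := hX
  refine ⟨fun i => PiTensorProduct.tprod A fun _ => p i,
    fun i => PiTensorProduct.lift ((MultilinearMap.mkPiAlgebra A (Fin d) A).compLinearMap fun _ => p' i),
    fun i => by simp [hp₁], fun i x => ?_, fun i j => by simp [hp₃]⟩
  induction x using PiTensorProduct.induction_on with
  | smul_tprod r f =>
    simp only [map_smul, PiTensorProduct.lift.tprod, MultilinearMap.compLinearMap_apply,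
      MultilinearMap.mkPiAlgebra_apply, smul_eq_mul, mul_smul]
    rw [smul_comm (k i ^ d) r]
    congr 1
    rw [← MultilinearMap.map_smul_univ]
    simp only [hp₂]
    rw [MultilinearMap.map_smul_univ, Finset.prod_const, Finset.card_univ, Fintype.card_fin]
  | add x y hx hy => simp only [map_add, add_smul, smul_add, hx, hy]

theorem top_iso {F : Type*} [AddCommGroup F] [Module A F] {N : ℕ} (b : Module.Basis (Fin N) A F) :
    Nonempty (⋀[A]^N F ≃ₗ[A] A) := by
  obtain ⟨e⟩ := top_iso_self A N
  let e' : ⋀[A]^N F ≃ₗ[A] ⋀[A]^N (Fin N → A) := LinearEquiv.ofLinear (exteriorPower.map N b.equivFun.toLinearMap)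
    (exteriorPower.map N b.equivFun.symm.toLinearMap)
    (by rw [← exteriorPower.map_comp, LinearEquiv.comp_coe, LinearEquiv.symm_trans_self]
        exact exteriorPower.map_id)
    (by rw [← exteriorPower.map_comp, LinearEquiv.comp_coe, LinearEquiv.self_trans_symm]
        exact exteriorPower.map_id)
  exact ⟨e'.trans e⟩

theorem map_eq_det {F : Type*} [AddCommGroup F] [Module A F] {N : ℕ} (b : Module.Basis (Fin N) A F)
    (f : F →ₗ[A] F) : exteriorPower.map N f = LinearMap.det f • LinearMap.id := by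
  classical
  obtain ⟨c, hc⟩ := exists_scalar (P := F) (n := N) (fun q hq =>
    ⟨1, fun h => hq.ne_top ((Ideal.eq_top_iff_one _).2 h), b.equivFun.symm.toLinearMap, b.equivFun.toLinearMap,
      by simp, by simp⟩) (exteriorPower.map N f)
  have h := congrArg (exteriorPower.alternatingMapLinearEquiv b.det)
    (LinearMap.congr_fun hc (exteriorPower.ιMulti A N b))
  simp only [exteriorPower.map_apply_ιMulti, LinearMap.smul_apply, LinearMap.id_apply, map_smul,
    exteriorPower.alternatingMapLinearEquiv_apply_ιMulti, Module.Basis.det_self, Module.Basis.det_comp,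
    smul_eq_mul, mul_one] at h
  rw [hc, h]

/-- Frames of a top exterior power from local bases. -/
theorem frames_exterior {F : Type*} [AddCommGroup F] [Module A F] {N : ℕ} (b : Module.Basis (Fin N) A F)
    (c : ι → A) (P : ι → F →ₗ[A] X) (P' : ι → X →ₗ[A] F)
    (h₁ : ∀ i, P' i ∘ₗ P i = c i • LinearMap.id) (h₂ : ∀ i, P i ∘ₗ P' i = c i • LinearMap.id) :
    Frames (⋀[A]^N X) (fun i => c i ^ N) (fun i j => LinearMap.det (P' j ∘ₗ P i)) := by
  obtain ⟨e⟩ := top_iso b
  have hmap : ∀ (T : F →ₗ[A] F) z, exteriorPower.map N T z = LinearMap.det T • z := fun T z => by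
    rw [map_eq_det b]; rfl
  refine ⟨fun i => exteriorPower.map N (P i) (e.symm 1), fun i => e.toLinearMap ∘ₗ exteriorPower.map N (P' i),
    fun i => ?_, fun i x => ?_, fun i j => ?_⟩
  · simp only [LinearMap.comp_apply, LinearEquiv.coe_coe]
    rw [← LinearMap.comp_apply (exteriorPower.map N (P' i)), ← exteriorPower.map_comp, h₁, map_smul_id]
    simp
  · simp only [LinearMap.comp_apply, LinearEquiv.coe_coe]
    rw [← map_smul, ← map_smul, smul_eq_mul, mul_one, LinearEquiv.symm_apply_apply,
      ← LinearMap.comp_apply (exteriorPower.map N (P i)), ← exteriorPower.map_comp, h₂, map_smul_id]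
    rfl
  · simp only [LinearMap.comp_apply, LinearEquiv.coe_coe]
    rw [← LinearMap.comp_apply (exteriorPower.map N (P' j)), ← exteriorPower.map_comp, hmap]
    simp

end frames

section block

variable {A B : Type*} [CommRing A] [CommRing B] [Algebra A B] {n k : ℕ}

/-- `c ↦ (W c₁, …, W c_k)` -/
def blockW (W : (Fin n → A) →ₗ[A] B) : (Fin k × Fin n → A) →ₗ[A] (Fin k → B) :=
  LinearMap.pi fun a => W ∘ₗ LinearMap.funLeft A A fun i => (a, i)

/-- `y ↦ (Z y₁, …, Z y_k)` -/
def blockZ (Z : B →ₗ[A] (Fin n → A)) : (Fin k → B) →ₗ[A] (Fin k × Fin n → A) :=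
  LinearMap.pi fun ai => LinearMap.proj ai.2 ∘ₗ Z ∘ₗ LinearMap.proj ai.1

@[simp] theorem blockW_apply (W : (Fin n → A) →ₗ[A] B) (c : Fin k × Fin n → A) (a : Fin k) :
    blockW W c a = W fun i => c (a, i) := rfl

@[simp] theorem blockZ_apply (Z : B →ₗ[A] (Fin n → A)) (y : Fin k → B) (a : Fin k × Fin n) :
    blockZ Z y a = Z (y a.1) a.2 := rfl

theorem det_block_same (W : (Fin n → A) →ₗ[A] B) (Z : B →ₗ[A] (Fin n → A)) (w : A)
    (hWZ : ∀ x, W (Z x) = w • x) (hZW : ∀ c, Z (W c) = w • c) (g : (Fin k → B) →ₗ[B] (Fin k → B)) :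
    ∃ e : ℕ, w ^ e * (LinearMap.det (blockZ Z ∘ₗ g.restrictScalars A ∘ₗ blockW W) * w ^ n) =
      w ^ e * (w ^ (n * k) * LinearMap.det (Z ∘ₗ LinearMap.mulLeft A (LinearMap.det g) ∘ₗ W)) := by
  classical
  let L := Localization.Away w
  let φ := (algebraMap A L).mapMatrix (m := Fin n)
  let u : L := IsLocalization.Away.invSelf w
  have hu : u * algebraMap A L w = 1 := (mul_comm _ _).trans (IsLocalization.Away.mul_invSelf w)
  let Φ : B → Matrix (Fin n) (Fin n) A := fun b => LinearMap.toMatrix' (Z ∘ₗ LinearMap.mulLeft A b ∘ₗ W)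
  have hΦmul : ∀ b c, Φ b * Φ c = w • Φ (b * c) := fun b c => by
    simp only [Φ, ← LinearMap.toMatrix'_comp, ← map_smul]
    congr 1
    refine LinearMap.ext fun z => ?_
    simp [hWZ, mul_assoc]
  have hΦone : Φ 1 = w • 1 := by
    simp only [Φ, ← LinearMap.toMatrix'_id, ← map_smul]
    congr 1
    refine LinearMap.ext fun z => ?_
    simp [hZW]
  have hΦadd : ∀ b c, Φ (b + c) = Φ b + Φ c := fun b c => by
    simp only [Φ, ← map_add]
    congr 1
    refine LinearMap.ext fun z => ?_
    simp [add_mul]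
  let ρ : B →+* Matrix (Fin n) (Fin n) L :=
    { toFun := fun b => u • φ (Φ b)
      map_zero' := by
        have : Φ 0 = 0 := by simpa using hΦadd 0 0
        rw [this, map_zero, smul_zero]
      map_one' := by
        rw [hΦone]
        ext i j
        by_cases h : i = j <;> simp [φ, h, hu, Matrix.one_apply]
      map_mul' := fun b c => by
        rw [smul_mul_smul_comm, ← map_mul, hΦmul]
        ext i j
        simp only [φ, RingHom.mapMatrix_apply, Matrix.smul_apply, Matrix.map_apply, smul_eq_mul, map_mul]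
        linear_combination (-(u * algebraMap A L (Φ (b * c) i j))) * hu
      map_add' := fun b c => by rw [hΦadd, map_add, smul_add] }
  have hcomp : Matrix.comp (Fin k) (Fin k) (Fin n) (Fin n) L ((LinearMap.toMatrix' g).map ρ) =
      u • (algebraMap A L).mapMatrix (LinearMap.toMatrix' (blockZ Z ∘ₗ g.restrictScalars A ∘ₗ blockW W)) := by
    ext ⟨a, i⟩ ⟨b, j⟩
    simp only [Matrix.comp_apply, Matrix.map_apply, RingHom.coe_mk, MonoidHom.coe_mk, OneHom.coe_mk, ρ, φ, Φ,
      RingHom.mapMatrix_apply, Matrix.smul_apply, LinearMap.toMatrix'_apply, LinearMap.comp_apply,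
      LinearMap.mulLeft_apply, blockZ_apply, LinearMap.coe_restrictScalars]
    have h1 : blockW W (Pi.single (b, j) (1 : A)) = Pi.single b (W (Pi.single j 1)) := funext fun a' => by
      rcases eq_or_ne a' b with rfl | hab
      · simp only [blockW_apply, Pi.single_eq_same]
        congr 1
        funext i'
        simp [Pi.single_apply]
      · simp [hab, ← Pi.zero_def]
    have h2 : ∀ z : B, g (Pi.single b z) a = g (Pi.single b 1) a * z := fun z => by
      have : Pi.single b z = z • (Pi.single b 1 : Fin k → B) := funext fun a' => by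
        rcases eq_or_ne a' b with rfl | hab <;> simp [*]
      rw [this, map_smul, Pi.smul_apply, smul_eq_mul, mul_comm]
    rw [h1, h2 (W (Pi.single j 1))]
  have h := Matrix.det_det (LinearMap.toMatrix' g) ρ
  rw [LinearMap.det_toMatrix', hcomp, Matrix.det_smul, ← RingHom.map_det, LinearMap.det_toMatrix'] at h
  simp [ρ, φ, Matrix.det_smul, ← RingHom.mapMatrix_apply, ← RingHom.map_det, Φ,
    LinearMap.det_toMatrix', Fintype.card_prod, Fintype.card_fin] at h
  obtain ⟨⟨_, e, rfl⟩, he⟩ := (IsLocalization.eq_iff_exists (Submonoid.powers w) L).1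
    (show algebraMap A L (LinearMap.det (blockZ Z ∘ₗ g.restrictScalars A ∘ₗ blockW W) * w ^ n) =
      algebraMap A L (w ^ (n * k) * LinearMap.det (Z ∘ₗ LinearMap.mulLeft A (LinearMap.det g) ∘ₗ W)) by
        set x := algebraMap A L (LinearMap.det (blockZ Z ∘ₗ g.restrictScalars A ∘ₗ blockW W))
        set y := algebraMap A L (LinearMap.det (Z ∘ₗ LinearMap.mulLeft A (LinearMap.det g) ∘ₗ W))
        rw [map_mul, map_mul, map_pow, map_pow]
        have e1 : (u * algebraMap A L w) ^ (n * k) = 1 := by rw [hu, one_pow]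
        have e2 : (u * algebraMap A L w) ^ n = 1 := by rw [hu, one_pow]
        calc x * algebraMap A L w ^ n
            = (u * algebraMap A L w) ^ (n * k) * (x * algebraMap A L w ^ n) := by rw [e1, one_mul]
          _ = algebraMap A L w ^ (n * k) * (u ^ (k * n) * x) * algebraMap A L w ^ n := by ring
          _ = algebraMap A L w ^ (n * k) * (u ^ n * y) * algebraMap A L w ^ n := by rw [h]
          _ = (u * algebraMap A L w) ^ n * (algebraMap A L w ^ (n * k) * y) := by ring
          _ = _ := by rw [e2, one_mul])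
  exact ⟨e, he⟩

theorem det_blockZ_blockW (W : (Fin n → A) →ₗ[A] B) (Z : B →ₗ[A] (Fin n → A)) :
    LinearMap.det (blockZ (k := k) Z ∘ₗ blockW W) = LinearMap.det (Z ∘ₗ W) ^ k := by
  classical
  have hm : LinearMap.toMatrix' (blockZ (k := k) Z ∘ₗ blockW W) =
      Matrix.comp _ _ _ _ A (Matrix.diagonal fun _ : Fin k => LinearMap.toMatrix' (Z ∘ₗ W)) := by
    ext ⟨a, i⟩ ⟨b, j⟩
    simp only [LinearMap.toMatrix'_apply, LinearMap.comp_apply, blockZ_apply, blockW_apply, Matrix.comp_apply]
    rcases eq_or_ne a b with rfl | hab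
    · simp [Matrix.diagonal_apply_eq, LinearMap.toMatrix'_apply, LinearMap.comp_apply, Pi.single_apply, Prod.mk.injEq]
      rw [show (fun i' => if i' = j then (1 : A) else 0) = Pi.single j 1 from funext fun x => by simp [Pi.single_apply]]
    · simp [hab, ← Pi.zero_def]
  rw [← LinearMap.det_toMatrix', hm, Matrix.comp_diagonal, Matrix.det_reindex_self, Matrix.det_blockDiagonal,
    Finset.prod_const, Finset.card_univ, Fintype.card_fin, LinearMap.det_toMatrix']

/-- The determinant of a `B`-linear map read in any two coordinate systems of `B` over `A`. -/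
theorem det_block (hB : Approx A B n) (hk : 1 ≤ k) (W : (Fin n → A) →ₗ[A] B) (Z : B →ₗ[A] (Fin n → A))
    (g : (Fin k → B) →ₗ[B] (Fin k → B)) :
    LinearMap.det (blockZ Z ∘ₗ g.restrictScalars A ∘ₗ blockW W) =
      LinearMap.det (Z ∘ₗ W) ^ (k - 1) * LinearMap.det (Z ∘ₗ LinearMap.mulLeft A (LinearMap.det g) ∘ₗ W) := by
  classical
  obtain ⟨d, rfl⟩ : ∃ d, k = d + 1 := ⟨k - 1, by omega⟩
  choose w hw W₀ Z₀ h₁ h₂ using hB
  let Q := {q : Ideal A // q.IsMaximal}
  rw [← sub_eq_zero]
  set L := LinearMap.det (blockZ Z ∘ₗ g.restrictScalars A ∘ₗ blockW W)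
  set R := LinearMap.det (Z ∘ₗ W) ^ (d + 1 - 1) *
    LinearMap.det (Z ∘ₗ LinearMap.mulLeft A (LinearMap.det g) ∘ₗ W)
  by_contra hne
  have hp : LinearMap.ker (LinearMap.toSpanSingleton A A (L - R)) ≠ ⊤ := fun h => hne (by
    have : (1 : A) ∈ LinearMap.ker (LinearMap.toSpanSingleton A A (L - R)) := h ▸ Submodule.mem_top
    simpa using this)
  obtain ⟨q, hq, hle⟩ := Ideal.exists_le_maximal _ hp
  let v := w q hq
  let W' := W₀ q hq
  let Z' := Z₀ q hq
  have hWZ : ∀ x, W' (Z' x) = v • x := fun x => LinearMap.congr_fun (h₁ q hq) x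
  have hZW : ∀ c, Z' (W' c) = v • c := fun c => LinearMap.congr_fun (h₂ q hq) c
  obtain ⟨e, he⟩ := det_block_same (k := d + 1) W' Z' v hWZ hZW g
  set δ := LinearMap.det g
  set P := LinearMap.det (Z ∘ₗ W') * LinearMap.det (Z' ∘ₗ W) with hP
  have e1 : v ^ n * LinearMap.det (Z ∘ₗ W) = P := by
    rw [hP, ← LinearMap.det_comp]
    have : (Z ∘ₗ W') ∘ₗ (Z' ∘ₗ W) = v • (Z ∘ₗ W) := LinearMap.ext fun c => by simp [hWZ]
    rcases subsingleton_or_nontrivial A with hA | hA
    · exact Subsingleton.elim _ _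
    rw [this, LinearMap.det_smul, Module.finrank_pi]
    simp
  have e2 : v ^ (n + n) * LinearMap.det (Z ∘ₗ LinearMap.mulLeft A δ ∘ₗ W) =
      P * LinearMap.det (Z' ∘ₗ LinearMap.mulLeft A δ ∘ₗ W') := by
    rw [hP, mul_right_comm, ← LinearMap.det_comp, ← LinearMap.det_comp]
    have : ((Z ∘ₗ W') ∘ₗ (Z' ∘ₗ LinearMap.mulLeft A δ ∘ₗ W')) ∘ₗ (Z' ∘ₗ W) =
        (v * v) • (Z ∘ₗ LinearMap.mulLeft A δ ∘ₗ W) := LinearMap.ext fun c => by
      simp [hWZ, smul_smul, mul_smul_comm]
    rcases subsingleton_or_nontrivial A with hA | hA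
    · exact Subsingleton.elim _ _
    rw [this, LinearMap.det_smul, Module.finrank_pi]
    simp [← two_mul, pow_mul, pow_two]
  have e3 : v ^ ((d + 1) * n + (d + 1) * n) * L =
      P ^ (d + 1) * LinearMap.det (blockZ Z' ∘ₗ g.restrictScalars A ∘ₗ blockW W') := by
    rw [hP, mul_pow, ← det_blockZ_blockW, ← det_blockZ_blockW, mul_right_comm, ← LinearMap.det_comp,
      ← LinearMap.det_comp]
    have hb : ∀ y : Fin (d + 1) → B, blockW W' (blockZ Z' y) = v • y := fun y => funext fun a => hWZ (y a)
    have : ((blockZ Z ∘ₗ blockW W') ∘ₗ (blockZ Z' ∘ₗ g.restrictScalars A ∘ₗ blockW W')) ∘ₗ (blockZ Z' ∘ₗ blockW W) =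
        (v * v) • (blockZ Z ∘ₗ g.restrictScalars A ∘ₗ blockW W) := LinearMap.ext fun c => by
      simp [hb, smul_smul, LinearMap.map_smul_of_tower]
    rcases subsingleton_or_nontrivial A with hA | hA
    · exact Subsingleton.elim _ _
    rw [this, LinearMap.det_smul, Module.finrank_pi]
    rw [Fintype.card_prod, Fintype.card_fin, Fintype.card_fin, mul_pow, ← pow_add]
  have key : v ^ (e + n + (2 * d + 2) * n) * L = v ^ (e + n + (2 * d + 2) * n) * R := by
    calc v ^ (e + n + (2 * d + 2) * n) * L = v ^ e * v ^ n * (v ^ ((d + 1) * n + (d + 1) * n) * L) := by ring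
      _ = P ^ (d + 1) * (v ^ e * (LinearMap.det (blockZ Z' ∘ₗ g.restrictScalars A ∘ₗ blockW W') * v ^ n)) := by
          rw [e3]; ring
      _ = v ^ e * v ^ (n * (d + 1)) * P ^ d * (P * LinearMap.det (Z' ∘ₗ LinearMap.mulLeft A δ ∘ₗ W')) := by
          rw [he]; ring
      _ = _ := by
          rw [← e2, ← e1]
          simp only [R, Nat.add_sub_cancel]
          ring
  refine hw q hq (hq.isPrime.mem_of_pow_mem (e + n + (2 * d + 2) * n) (hle ?_))
  show v ^ (e + n + (2 * d + 2) * n) • (L - R) = 0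
  rw [smul_eq_mul, mul_sub, key, sub_self]

end block

end NormBundle51
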