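import Mathlib

/-!
Localizations of products of domains at primes.
-/

set_option autoImplicit false

universe u v

namespace Groth.Agent.Small51

open scoped Classical

variable {ι : Type u} {R : ι → Type v} [∀ i, CommRing (R i)] (P : Ideal (∀ i, R i)) [P.IsPrime]

/-- The indicator of a set of indices. -/
noncomputable def ind (S : Set ι) : ∀ i, R i := fun i => if i ∈ S then 1 else 0

theorem ind_apply (S : Set ι) (i : ι) : (ind S : ∀ i, R i) i = if i ∈ S then 1 else 0 := rfl

theorem ind_or_compl (S : Set ι) : (ind S : ∀ i, R i) ∉ P ∨ (ind Sᶜ : ∀ i, R i) ∉ P := by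
  by_contra h
  push Not at h
  refine Ideal.IsPrime.ne_top ‹_› ((P.eq_top_iff_one).2 ?_)
  convert P.add_mem h.1 h.2 using 1
  funext i
  simp only [Pi.add_apply, Pi.one_apply, ind_apply, Set.mem_compl_iff]
  split_ifs <;> simp

theorem map_eq_zero {x e : ∀ i, R i} (he : e ∉ P) (h : ∀ i, e i * x i = 0) :
    algebraMap _ (Localization.AtPrime P) x = 0 :=
  (IsLocalization.map_eq_zero_iff P.primeCompl _ _).2 ⟨⟨e, he⟩, funext h⟩

theorem map_dvd {x y e : ∀ i, R i} (he : e ∉ P) (h : ∀ i, x i ∣ e i * y i) :
    algebraMap _ (Localization.AtPrime P) x ∣ algebraMap _ _ y := by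
  choose q hq using h
  have h2 : e * y = x * q := funext fun i => hq i
  refine ⟨IsLocalization.mk' _ q (⟨e, he⟩ : P.primeCompl), ?_⟩
  rw [IsLocalization.mul_mk'_eq_mk'_of_mul, IsLocalization.eq_mk'_iff_mul_eq, ← map_mul, ← h2, mul_comm e y]

variable [∀ i, IsDomain (R i)]

theorem isDomain_localization : IsDomain (Localization.AtPrime P) := by
  have : NoZeroDivisors (Localization.AtPrime P) := by
    constructor
    intro z w hzw
    obtain ⟨⟨a, s⟩, hz⟩ := IsLocalization.surj P.primeCompl z
    obtain ⟨⟨b, t⟩, hw⟩ := IsLocalization.surj P.primeCompl w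
    have h0 : algebraMap _ (Localization.AtPrime P) (a * b) = 0 := by
      rw [map_mul, ← hz, ← hw]; linear_combination algebraMap _ (Localization.AtPrime P) (s : ∀ i, R i) *
        algebraMap _ (Localization.AtPrime P) (t : ∀ i, R i) * hzw
    obtain ⟨⟨c, hc⟩, hcab⟩ := (IsLocalization.map_eq_zero_iff P.primeCompl _ _).1 h0
    have key : ∀ i, c i * a i = 0 ∨ b i = 0 := fun i =>
      mul_eq_zero.1 (by rw [mul_assoc]; exact congrFun hcab i)
    rcases ind_or_compl P {i | c i * a i = 0} with he | he
    · refine Or.inl ?_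
      have : algebraMap _ (Localization.AtPrime P) a = 0 :=
        map_eq_zero P (e := ind {i | c i * a i = 0} * c) (fun hh => (Ideal.IsPrime.mem_or_mem ‹_› hh).elim he hc)
          fun i => by
            simp only [Pi.mul_apply, ind_apply, Set.mem_ofPred_eq]
            split_ifs with h <;> simp [h]
      exact (IsLocalization.map_units _ s).mul_left_eq_zero.1 (hz.trans this)
    · refine Or.inr ?_
      have : algebraMap _ (Localization.AtPrime P) b = 0 := map_eq_zero P he fun i => by
        simp only [ind_apply, Set.mem_compl_iff, Set.mem_ofPred_eq]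
        split_ifs with h
        · exact zero_mul _
        · rw [one_mul]; exact (key i).resolve_left h
      exact (IsLocalization.map_units _ t).mul_left_eq_zero.1 (hw.trans this)
  exact NoZeroDivisors.to_isDomain _

theorem preValuationRing_localization [∀ i, ValuationRing (R i)] :
    PreValuationRing (Localization.AtPrime P) := by
  haveI := isDomain_localization P
  constructor
  intro z w
  obtain ⟨⟨a, s⟩, hz⟩ := IsLocalization.surj P.primeCompl z
  obtain ⟨⟨b, t⟩, hw⟩ := IsLocalization.surj P.primeCompl w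
  suffices h : z ∣ w ∨ w ∣ z by
    rcases h with ⟨c, hc⟩ | ⟨c, hc⟩
    · exact ⟨c, Or.inl hc.symm⟩
    · exact ⟨c, Or.inr hc.symm⟩
  rw [← IsUnit.dvd_mul_right (IsLocalization.map_units _ t), hw,
    ← IsUnit.mul_right_dvd (IsLocalization.map_units _ s) (a := z), hz,
    ← IsUnit.dvd_mul_right (IsLocalization.map_units _ s) (b := z), hz,
    ← IsUnit.mul_right_dvd (IsLocalization.map_units _ t) (a := w), hw]
  rcases ind_or_compl P {i | a i ∣ b i} with he | he
  · refine Or.inl (map_dvd P he fun i => ?_)
    simp only [ind_apply, Set.mem_ofPred_eq]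
    split_ifs with h <;> simp [h]
  · refine Or.inr (map_dvd P he fun i => ?_)
    simp only [ind_apply, Set.mem_compl_iff, Set.mem_ofPred_eq]
    split_ifs with h
    · simp
    · rw [one_mul]; exact ((ValuationRing.dvd_total (a i) (b i)).resolve_left h)

theorem isIntegrallyClosed_localization [∀ i, IsIntegrallyClosed (R i)] :
    IsIntegrallyClosed (Localization.AtPrime P) := by
  haveI := isDomain_localization P
  let L := Localization.AtPrime P
  let K := FractionRing L
  refine (isIntegrallyClosed_iff K).2 fun {x} hx => ?_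
  obtain ⟨⟨s, hs⟩, hsx⟩ := hx.exists_multiple_integral_of_isLocalization P.primeCompl _
  obtain ⟨p, hp, hpy⟩ := hsx
  obtain ⟨a', b', hb', hy⟩ := IsFractionRing.div_surjective L ((⟨s, hs⟩ : P.primeCompl) • x)
  obtain ⟨⟨a0, u⟩, ha⟩ := IsLocalization.surj P.primeCompl a'
  obtain ⟨⟨b0, w⟩, hb⟩ := IsLocalization.surj P.primeCompl b'
  set a : ∀ i, R i := a0 * w
  set b : ∀ i, R i := b0 * u
  have hbne : algebraMap _ L b ≠ 0 := by
    rw [map_mul, ← hb]
    exact mul_ne_zero (mul_ne_zero (nonZeroDivisors.ne_zero hb') (IsLocalization.map_units _ w).ne_zero)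
      (IsLocalization.map_units _ u).ne_zero
  have hinjK : Function.Injective (algebraMap L K) := IsFractionRing.injective L K
  have hbK : algebraMap L K (algebraMap _ L b) ≠ 0 := (map_ne_zero_iff _ hinjK).2 hbne
  have hab : algebraMap L K (algebraMap _ L b) * ((⟨s, hs⟩ : P.primeCompl) • x) = algebraMap L K (algebraMap _ L a) := by
    have hb'K : algebraMap L K b' ≠ 0 := (map_ne_zero_iff _ hinjK).2 (nonZeroDivisors.ne_zero hb')
    rw [← hy, map_mul (algebraMap _ L) b0, map_mul (algebraMap _ L) a0, ← hb, ← ha]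
    simp only [map_mul]
    rw [mul_comm _ (_ / _), div_mul_eq_mul_div, div_eq_iff hb'K]
    ring
  have hroot : algebraMap _ L ((p.scaleRoots b).eval a) = 0 := by
    refine hinjK ?_
    rw [map_zero, ← IsScalarTower.algebraMap_apply, ← Polynomial.aeval_algebraMap_apply_eq_algebraMap_eval,
      IsScalarTower.algebraMap_apply _ L K a, ← hab, ← IsScalarTower.algebraMap_apply]
    exact Polynomial.scaleRoots_aeval_eq_zero hpy
  obtain ⟨⟨t, ht⟩, htr⟩ := (IsLocalization.map_eq_zero_iff P.primeCompl _ _).1 hroot
  have h1 : (ind {i | t i = 0} : ∀ i, R i) ∈ P := by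
    by_contra he
    refine Ideal.IsPrime.ne_top ‹_› ?_
    exact absurd (show (ind {i | t i = 0} * t : ∀ i, R i) ∈ P by
      rw [show (ind {i | t i = 0} * t : ∀ i, R i) = 0 from funext fun i => by
        simp only [Pi.mul_apply, ind_apply, Set.mem_ofPred_eq, Pi.zero_apply]; split_ifs with h <;> simp [h]]
      exact zero_mem _) fun hh => (Ideal.IsPrime.mem_or_mem ‹_› hh).elim he ht
  have h2 : (ind {i | b i = 0} : ∀ i, R i) ∈ P := by
    by_contra he
    exact hbne (map_eq_zero P he fun i => by
      simp only [ind_apply, Set.mem_ofPred_eq]; split_ifs with h <;> simp [h])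
  have he : (ind {i | t i ≠ 0 ∧ b i ≠ 0} : ∀ i, R i) ∉ P := by
    intro h3
    refine Ideal.IsPrime.ne_top ‹_› ((P.eq_top_iff_one).2 ?_)
    convert P.add_mem h3 (P.sub_mem (P.add_mem h1 h2) (P.mul_mem_right (ind {i | b i = 0}) h1)) using 1
    funext i
    simp only [Pi.add_apply, Pi.sub_apply, Pi.mul_apply, Pi.one_apply, ind_apply, Set.mem_ofPred_eq]
    split_ifs <;> simp_all
  have hdvd : algebraMap _ L b ∣ algebraMap _ L a := map_dvd P he fun i => by
    simp only [ind_apply, Set.mem_ofPred_eq]
    split_ifs with h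
    · rw [one_mul]
      have hev : ((p.scaleRoots b).map (Pi.evalRingHom R i)).eval (a i) = 0 := by
        rw [show a i = Pi.evalRingHom R i a from rfl, Polynomial.eval_map, Polynomial.eval₂_at_apply]
        have := congrFun htr i
        simp only [Pi.mul_apply, Pi.zero_apply, mul_eq_zero, h.1, false_or] at this
        exact this
      rw [Polynomial.map_scaleRoots p b (Pi.evalRingHom R i) (by rw [hp.leadingCoeff, map_one]; exact one_ne_zero)] at hev
      let Ki := FractionRing (R i)
      have hbi : algebraMap (R i) Ki (b i) ≠ 0 := (map_ne_zero_iff _ (IsFractionRing.injective (R i) Ki)).2 h.2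
      have hint : IsIntegral (R i) (algebraMap (R i) Ki (a i) / algebraMap (R i) Ki (b i)) := by
        refine ⟨p.map (Pi.evalRingHom R i), hp.map _, ?_⟩
        have he' := Polynomial.scaleRoots_eval₂_mul (algebraMap (R i) Ki)
          (algebraMap (R i) Ki (a i) / algebraMap (R i) Ki (b i)) (b i) (p := p.map (Pi.evalRingHom R i))
        rw [mul_div_cancel₀ _ hbi, Polynomial.eval₂_at_apply] at he'
        change Polynomial.eval (a i) ((p.map (Pi.evalRingHom R i)).scaleRoots (b i)) = 0 at hev
        rw [hev, map_zero] at he'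
        exact (mul_eq_zero.1 he'.symm).resolve_left (pow_ne_zero _ hbi)
      obtain ⟨y, hy'⟩ := IsIntegrallyClosed.isIntegral_iff.1 hint
      refine ⟨y, IsFractionRing.injective (R i) Ki ?_⟩
      rw [map_mul, hy', mul_div_cancel₀ _ hbi]
    · simp
  obtain ⟨q, hq⟩ := hdvd
  refine ⟨q * IsLocalization.mk' L 1 (⟨s, hs⟩ : P.primeCompl), ?_⟩
  have hsxq : (⟨s, hs⟩ : P.primeCompl) • x = algebraMap L K q := mul_left_cancel₀ hbK (by rw [hab, hq, map_mul])
  rw [map_mul, ← hsxq, Submonoid.smul_def, Algebra.smul_def, IsScalarTower.algebraMap_apply _ L K,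
    mul_right_comm, ← map_mul, IsLocalization.mul_mk'_eq_mk'_of_mul, mul_one, IsLocalization.mk'_self, map_one, one_mul]

end Groth.Agent.Small51
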