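import Mathlib
import Groth.Prelude.Def_W4c1hurwitzcptBd

/-! Crimps of the formal disk: echelon bases and quadratic subalgebras. -/

universe u v

open PowerSeries

namespace Crimp51

section full

variable {R : Type u} [CommRing R] [IsDomain R] {ι : Type*} [Fintype ι] {V : Type v} [AddCommGroup V] [Module R V]

/-- `d` independent vectors in a free module of rank `d` span a submodule containing a nonzero multiple of everything. -/
theorem exists_smul_mem_span (B : Module.Basis ι R V) (g : ι → V) (hg : LinearIndependent R g) :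
    ∃ r : R, r ≠ 0 ∧ ∀ v, r • v ∈ Submodule.span R (Set.range g) := by
  classical
  let A : Matrix ι ι R := Matrix.of fun i j => B.repr (g j) i
  have hA : ∀ c : ι → R, B.equivFun (∑ j, c j • g j) = A.mulVec c := fun c => by
    ext i
    simp [A, Matrix.mulVec, dotProduct, mul_comm]
  have hdet : A.det ≠ 0 := fun h => by
    obtain ⟨c, hc, hc0⟩ := Matrix.exists_mulVec_eq_zero_iff.2 h
    refine hc (funext fun j => Fintype.linearIndependent_iff.1 hg c ?_ j)
    exact B.equivFun.injective (by rw [hA, hc0, map_zero])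
  refine ⟨A.det, hdet, fun v => ?_⟩
  have : A.det • v = ∑ j, (A.adjugate.mulVec (B.equivFun v)) j • g j := B.equivFun.injective (by
    rw [hA, Matrix.mulVec_mulVec, Matrix.mul_adjugate, Matrix.smul_mulVec, Matrix.one_mulVec, map_smul])
  rw [this]
  exact Submodule.sum_mem _ fun j _ => Submodule.smul_mem _ _ (Submodule.subset_span ⟨j, rfl⟩)

end full

section disk

variable {k : Type u} [Field k] {p : ℕ} [NeZero p]

open W4c1hurwitzcpt

local notation "val" => RootDisk.val

theorem val_smul (c : PowerSeries k) (f : RootDisk p k) :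
    val (c • f) = expand p (NeZero.ne p) c * val f := rfl

theorem coe_smul_X_pow (j : ℕ) (f : RootDisk p k) :
    val (((X : PowerSeries k) ^ j) • f) = X ^ (p * j) * val f := by
  rw [val_smul, map_pow, expand_X, pow_mul]

/-- orders of terms with distinct residues never cancel -/
theorem exists_order_sum {ι : Type*} [Fintype ι] (g : ι → RootDisk p k) (d : ι → ℕ)
    (hd : ∀ i, (val (g i)).order = d i) (hmod : ∀ i j, d i % p = d j % p → i = j) (c : ι → PowerSeries k)
    (hc : c ≠ 0) : ∃ i e, c i ≠ 0 ∧ (val (∑ i, c i • g i)).order = (d i + p * e : ℕ) := by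
  classical
  have hterm : ∀ i, c i ≠ 0 → ∃ e : ℕ, (val (c i • g i)).order = (d i + p * e : ℕ) := fun i hi => by
    obtain ⟨e, he⟩ : ∃ e : ℕ, (c i).order = e :=
      ⟨_, (ENat.natCast_toNat (fun h => hi (order_eq_top.1 h))).symm⟩
    refine ⟨e, ?_⟩
    rw [val_smul, order_mul, order_expand, he, hd]
    simp [add_comm]
  choose! e he using hterm
  let T := Finset.univ.filter fun i => c i ≠ 0
  have hT : T.Nonempty := by
    obtain ⟨i, hi⟩ := Function.ne_iff.1 hc
    exact ⟨i, Finset.mem_filter.2 ⟨Finset.mem_univ _, hi⟩⟩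
  obtain ⟨i₀, hi₀, hmin⟩ := T.exists_min_image (fun i => d i + p * e i) hT
  have hi₀' := (Finset.mem_filter.1 hi₀).2
  refine ⟨i₀, e i₀, hi₀', order_eq_nat.2 ⟨?_, fun m hm => ?_⟩⟩
  · rw [map_sum, map_sum, Finset.sum_eq_single i₀]
    · exact (order_eq_nat.1 (he i₀ hi₀')).1
    · intro i _ hi
      by_cases h : c i = 0
      · simp [h]
      refine (order_eq_nat.1 (he i h)).2 _ (lt_of_le_of_ne (hmin i (Finset.mem_filter.2 ⟨Finset.mem_univ _, h⟩)) fun h2 => hi ?_)
      refine hmod _ _ ?_
      have := congrArg (· % p) h2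
      simpa [Nat.add_mul_mod_self_left] using this.symm
    · simp
  · rw [map_sum, map_sum]
    refine Finset.sum_eq_zero fun i _ => ?_
    by_cases h : c i = 0
    · simp [h]
    exact (order_eq_nat.1 (he i h)).2 _ (lt_of_lt_of_le hm (hmin i (Finset.mem_filter.2 ⟨Finset.mem_univ _, h⟩)))

theorem linearIndependent_of_order {ι : Type*} [Fintype ι] (g : ι → RootDisk p k) (d : ι → ℕ)
    (hd : ∀ i, (val (g i)).order = d i) (hmod : ∀ i j, d i % p = d j % p → i = j) :
    LinearIndependent (PowerSeries k) g := by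
  refine Fintype.linearIndependent_iff.2 fun c hc => ?_
  by_contra hne
  obtain ⟨i, e, -, he⟩ := exists_order_sum g d hd hmod c (fun h => hne fun i => congrFun h i)
  rw [hc, map_zero, order_zero] at he
  exact ENat.top_ne_natCast _ he

theorem exists_echelon (B : Module.Basis (Fin p) (PowerSeries k) (RootDisk p k))
    (M : Submodule (PowerSeries k) (RootDisk p k)) (r : PowerSeries k) (hr : r ≠ 0) (hM : ∀ v, r • v ∈ M) :
    ∃ g : Fin p → RootDisk p k, (∀ i, g i ∈ M) ∧ LinearIndependent (PowerSeries k) g ∧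
      (∀ i, ∃ d : ℕ, (val (g i)).order = d ∧ d % p = (i : ℕ)) ∧ Submodule.span (PowerSeries k) (Set.range g) = M := by
  classical
  obtain ⟨N, hN⟩ : ∃ N : ℕ, r.order = N := ⟨_, (ENat.natCast_toNat (fun h => hr (order_eq_top.1 h))).symm⟩
  have hex : ∀ i : Fin p, ∃ d : ℕ, d % p = (i : ℕ) ∧ ∃ v ∈ M, (val v).order = d := fun i => by
    refine ⟨(i : ℕ) + p * N, by rw [Nat.add_mul_mod_self_left, Nat.mod_eq_of_lt i.2],
      r • (RootDisk.val (p := p)).symm (X ^ (i : ℕ)), hM _, ?_⟩
    rw [val_smul, RingEquiv.apply_symm_apply, order_mul, order_expand, hN, order_X_pow]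
    simp [add_comm]
  choose g hgM hg using fun i => (Nat.find_spec (hex i)).2
  have hd : ∀ i, Nat.find (hex i) % p = (i : ℕ) := fun i => (Nat.find_spec (hex i)).1
  have hmod : ∀ i j, Nat.find (hex i) % p = Nat.find (hex j) % p → i = j := fun i j h => Fin.ext (by rwa [hd, hd] at h)
  have hind := linearIndependent_of_order g _ hg hmod
  refine ⟨g, hgM, hind, fun i => ⟨_, hg i, hd i⟩, le_antisymm (Submodule.span_le.2 (Set.range_subset_iff.2 hgM)) ?_⟩
  obtain ⟨s, hs, hsmem⟩ := exists_smul_mem_span B g hind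
  obtain ⟨L, hL⟩ : ∃ L : ℕ, s.order = L := ⟨_, (ENat.natCast_toNat (fun h => hs (order_eq_top.1 h))).symm⟩
  set N' := Submodule.span (PowerSeries k) (Set.range g)
  -- everything of high order is in the span
  have hbig : ∀ v : RootDisk p k, (∀ i < p * L, coeff i (val v) = 0) → v ∈ N' := fun v hv => by
    obtain ⟨w, hw⟩ := X_pow_dvd_iff.2 hv
    obtain ⟨q, hq⟩ := X_pow_order_dvd (φ := s)
    rw [hL, ENat.toNat_natCast] at hq
    have hqu : IsUnit q := by
      rw [isUnit_iff_constantCoeff, isUnit_iff_ne_zero]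
      intro h0
      have h1 := (order_eq_nat.1 hL).1
      rw [hq, coeff_X_pow_mul', if_pos le_rfl, Nat.sub_self, coeff_zero_eq_constantCoeff, h0] at h1
      exact h1 rfl
    have : v = (↑hqu.unit⁻¹ : PowerSeries k) • (s • (RootDisk.val (p := p)).symm w) := by
      refine (RootDisk.val (p := p)).injective ?_
      rw [smul_smul, hq, mul_left_comm, IsUnit.val_inv_mul, mul_one, coe_smul_X_pow, RingEquiv.apply_symm_apply, hw]
    rw [this]
    exact N'.smul_mem _ (hsmem _)
  suffices h : ∀ (e : ℕ) (v : RootDisk p k), v ∈ M → (∀ i, i + e < p * L → coeff i (val v) = 0) → v ∈ N' from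
    fun v hv => h (p * L) v hv fun i hi => absurd hi (by omega)
  intro e
  induction e with
  | zero => exact fun v _ hv => hbig v (by simpa using hv)
  | succ e ih =>
    intro v hvM hv
    by_cases hL' : p * L ≤ e
    · exact ih v hvM fun i hi => absurd hi (by omega)
    let d := p * L - (e + 1)
    by_cases hc : coeff d (val v) = 0
    · refine ih v hvM fun i hi => ?_
      rcases lt_or_eq_of_le (show i ≤ d by omega) with h | h
      · exact hv i (by omega)
      · exact h ▸ hc
    let i₀ : Fin p := ⟨d % p, Nat.mod_lt _ (Nat.pos_of_ne_zero (NeZero.ne p))⟩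
    have hord : (val v).order = d := order_eq_nat.2 ⟨hc, fun i hi => hv i (by omega)⟩
    have hle : Nat.find (hex i₀) ≤ d := Nat.find_min' (hex i₀) ⟨rfl, v, hvM, hord⟩
    obtain ⟨j, hj⟩ : ∃ j, d = Nat.find (hex i₀) + p * j :=
      ⟨(d - Nat.find (hex i₀)) / p, by
        rw [Nat.mul_div_cancel' (Nat.dvd_of_mod_eq_zero (Nat.sub_mod_eq_zero_of_mod_eq (hd i₀).symm))]; omega⟩
    let c := coeff d (val v) / coeff (Nat.find (hex i₀)) (val (g i₀))
    have hw : coeff (Nat.find (hex i₀)) (val (g i₀)) ≠ 0 := (order_eq_nat.1 (hg i₀)).1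
    have hsub : v - (C c * X ^ j) • g i₀ ∈ N' := by
      refine ih _ (sub_mem hvM (M.smul_mem _ (hgM i₀))) fun i hi => ?_
      rw [map_sub, mul_smul, val_smul, expand_C, coe_smul_X_pow, map_sub, coeff_C_mul, coeff_X_pow_mul']
      rcases lt_or_eq_of_le (show i ≤ d by omega) with h | h
      · rw [hv i (by omega)]
        split_ifs with h'
        · rw [(order_eq_nat.1 (hg i₀)).2 _ (by omega), mul_zero, sub_zero]
        · rw [mul_zero, sub_zero]
      · subst h
        rw [if_pos (show p * j ≤ d by omega), show d - p * j = Nat.find (hex i₀) by omega, div_mul_cancel₀ _ hw, sub_self]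
    have := N'.add_mem hsub (N'.smul_mem (C c * X ^ j) (Submodule.subset_span ⟨i₀, rfl⟩))
    rwa [sub_add_cancel] at this

theorem nonempty_basis : Nonempty (Module.Basis (Fin p) (PowerSeries k) (RootDisk p k)) := by
  let g : Fin p → RootDisk p k := fun i => (RootDisk.val (p := p)).symm (X ^ (i : ℕ))
  have hg : ∀ i, (val (g i)).order = ((i : ℕ) : ℕ) := fun i => by simp [g]
  have hind := linearIndependent_of_order g (fun i => (i : ℕ)) hg fun i j h => Fin.ext (by
    rwa [Nat.mod_eq_of_lt i.2, Nat.mod_eq_of_lt j.2] at h)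
  refine ⟨Module.Basis.mk hind fun f _ => ?_⟩
  have hval : val f = val (∑ i : Fin p, (mk fun n => coeff (p * n + i) (val f)) • g i) := by
    rw [map_sum]
    ext n
    simp only [map_sum, val_smul, g, RingEquiv.apply_symm_apply, coeff_mul_X_pow']
    have hp : 0 < p := Nat.pos_of_ne_zero (NeZero.ne p)
    rw [Finset.sum_eq_single (⟨n % p, Nat.mod_lt _ hp⟩ : Fin p)]
    · rw [if_pos (Nat.mod_le _ _)]
      have : n - n % p = p * (n / p) := by
        have := Nat.mod_add_div n p; omega
      rw [this, coeff_expand_mul, coeff_mk, Nat.div_add_mod]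
    · intro i _ hi
      split_ifs with h
      · rw [coeff_expand_of_not_dvd]
        intro hdvd
        refine hi (Fin.ext ?_)
        obtain ⟨q, hq⟩ := hdvd
        show (i : ℕ) = n % p
        rw [show n = i + p * q by omega, Nat.add_mul_mod_self_left, Nat.mod_eq_of_lt i.2]
      · rfl
    · simp
  rw [(RootDisk.val (p := p)).injective hval]
  exact Submodule.sum_mem _ fun i _ => Submodule.smul_mem _ _ (Submodule.subset_span ⟨i, rfl⟩)

end disk

section quadratic

variable {k : Type u} [Field k] [CharZero k] {T : Type v} [CommRing T] [Algebra (PowerSeries k) T]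


variable (B : Module.Basis (Fin 2) (PowerSeries k) T) (c : PowerSeries k)

theorem isUnit_two : IsUnit (2 : (PowerSeries k)) := by
  rw [isUnit_iff_constantCoeff, map_ofNat]
  exact isUnit_iff_ne_zero.2 two_ne_zero

theorem basis_sum (h0 : B 0 = 1) (t : T) : t = B.repr t 0 • (1 : T) + B.repr t 1 • B 1 := by
  conv_lhs => rw [← B.sum_repr t, Fin.sum_univ_two, h0]

theorem span_eq (h0 : B 0 = 1) (n : ℕ) (t : T) :
    (t ∈ Submodule.span (PowerSeries k) {(1 : T)} ⊔ Ideal.span {(X : (PowerSeries k)) ^ n} • (⊤ : Submodule (PowerSeries k) T)) ↔ (X : (PowerSeries k)) ^ n ∣ B.repr t 1 := by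
  rw [Submodule.mem_sup]
  constructor
  · rintro ⟨y, hy, z, hz, rfl⟩
    obtain ⟨a, rfl⟩ := Submodule.mem_span_singleton.1 hy
    rw [Submodule.ideal_span_singleton_smul, Submodule.mem_smul_pointwise_iff_exists] at hz
    obtain ⟨z, -, rfl⟩ := hz
    rw [← h0, map_add, map_smul, map_smul]
    simp
  · rintro ⟨q, hq⟩
    refine ⟨_, Submodule.mem_span_singleton.2 ⟨B.repr t 0, rfl⟩, (X : (PowerSeries k)) ^ n • q • B 1,
      Submodule.smul_mem_smul (Ideal.mem_span_singleton_self _) Submodule.mem_top, ?_⟩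
    rw [smul_smul, ← hq]
    exact (basis_sum B h0 t).symm

theorem main (h0 : B 0 = 1) (h1 : B 1 * B 1 = algebraMap (PowerSeries k) T c) (a : ℕ)
    (hc : Associated c ((X : (PowerSeries k)) ^ a)) (b : ℕ) (S : Subalgebra (PowerSeries k) T) :
    ((∃ bS : Module.Basis (Fin 2) (PowerSeries k) S, Ideal.span {Algebra.discr (PowerSeries k) ⇑bS} = Ideal.span {(X : (PowerSeries k)) ^ b}) ↔
      ∃ n : ℕ, b = 2 * n + a ∧
        Subalgebra.toSubmodule S = Submodule.span (PowerSeries k) {(1 : T)} ⊔ Ideal.span {(X : (PowerSeries k)) ^ n} • (⊤ : Submodule (PowerSeries k) T)) ∧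
    ∀ n : ℕ, Subalgebra.toSubmodule S = Submodule.span (PowerSeries k) {(1 : T)} ⊔ Ideal.span {(X : (PowerSeries k)) ^ n} • (⊤ : Submodule (PowerSeries k) T) →
      Nonempty (S ≃ₐ[(PowerSeries k)] AdjoinRoot (Polynomial.X ^ 2 - Polynomial.C ((X : (PowerSeries k)) ^ (2 * n) * c))) := by
  classical
  -- the two generators of a subalgebra of the standard shape
  have key : ∀ n : ℕ, Subalgebra.toSubmodule S = Submodule.span (PowerSeries k) {(1 : T)} ⊔ Ideal.span {(X : (PowerSeries k)) ^ n} • (⊤ : Submodule (PowerSeries k) T) →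
      ∃ bs : Module.Basis (Fin 2) (PowerSeries k) S, bs 0 = 1 ∧ bs 1 * bs 1 = algebraMap (PowerSeries k) S ((X : (PowerSeries k)) ^ (2 * n) * c) := fun n hn => by
    have hmem : ∀ t : T, t ∈ S ↔ (X : (PowerSeries k)) ^ n ∣ B.repr t 1 := fun t => by
      rw [← Subalgebra.mem_toSubmodule, hn, span_eq B h0]
    let y : S := ⟨(X : (PowerSeries k)) ^ n • B 1, (hmem _).2 (by simp)⟩
    have hli : LinearIndependent (PowerSeries k) ![(1 : S), y] := by
      rw [LinearIndependent.pair_iff]
      intro s t hst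
      have h := congrArg (fun z : S => B.repr (z : T)) hst
      simp only [Subalgebra.coe_add, Subalgebra.coe_smul, OneMemClass.coe_one, y, ← h0, map_add, map_smul,
        ZeroMemClass.coe_zero, map_zero] at h
      have h0' := DFunLike.congr_fun h 0
      have h1' := DFunLike.congr_fun h 1
      simp at h0' h1'
      exact ⟨h0', h1'⟩
    let bs := Module.Basis.mk hli (fun z _ => by
      obtain ⟨q, hq⟩ := (hmem z.1).1 z.2
      have : z = B.repr z.1 0 • (1 : S) + q • y := Subtype.ext (by
        show z.1 = B.repr z.1 0 • (1 : T) + q • ((X : (PowerSeries k)) ^ n • B 1)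
        rw [smul_smul, mul_comm, ← hq]
        exact basis_sum B h0 z.1)
      rw [this]
      exact add_mem (Submodule.smul_mem _ _ (Submodule.subset_span ⟨0, rfl⟩))
        (Submodule.smul_mem _ _ (Submodule.subset_span ⟨1, rfl⟩)))
    refine ⟨bs, by simp [bs], Subtype.ext ?_⟩
    show ((bs 1 : S) : T) * ((bs 1 : S) : T) = algebraMap (PowerSeries k) T _
    simp only [bs, Module.Basis.coe_mk, Matrix.cons_val_one, Matrix.cons_val_fin_one, y]
    rw [smul_mul_smul_comm, h1, Algebra.smul_def, ← map_mul, ← pow_add, two_mul]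
  have hdisc : ∀ (n : ℕ) (bs : Module.Basis (Fin 2) (PowerSeries k) S), bs 0 = 1 →
      bs 1 * bs 1 = algebraMap (PowerSeries k) S ((X : (PowerSeries k)) ^ (2 * n) * c) → Associated (Algebra.discr (PowerSeries k) ⇑bs) ((X : (PowerSeries k)) ^ (2 * n + a)) := by
    intro n bs e0 e1
    have t0 : Algebra.trace (PowerSeries k) S 1 = 2 := by
      rw [← map_one (algebraMap (PowerSeries k) S), Algebra.trace_algebraMap_of_basis bs]; simp
    have t1 : Algebra.trace (PowerSeries k) S (bs 1) = 0 := by
      rw [Algebra.trace_eq_matrix_trace bs, Matrix.trace, Fin.sum_univ_two]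
      simp only [Matrix.diag, Algebra.leftMulMatrix_eq_repr_mul, e1, Algebra.algebraMap_eq_smul_one, e0, mul_one]
      rw [← e0]
      simp
    have t2 : Algebra.trace (PowerSeries k) S (bs 1 * bs 1) = 2 * ((X : (PowerSeries k)) ^ (2 * n) * c) := by
      rw [e1, Algebra.trace_algebraMap_of_basis bs]; simp
    rw [Algebra.discr_def, Matrix.det_fin_two]
    simp only [Algebra.traceMatrix_apply, Algebra.traceForm_apply, e0, one_mul, mul_one, t0, t1, t2, zero_mul, sub_zero]
    rw [← mul_assoc, pow_add]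
    exact (associated_isUnit_mul_left_iff (isUnit_two.mul isUnit_two)).2 (Associated.mul_left _ hc)
  have hbc : ∀ (bs bs' : Module.Basis (Fin 2) (PowerSeries k) S), Associated (Algebra.discr (PowerSeries k) ⇑bs) (Algebra.discr (PowerSeries k) ⇑bs') := fun bs bs' => by
    have h := Algebra.discr_of_matrix_vecMul (A := (PowerSeries k)) (b := ⇑bs) (bs.toMatrix ⇑bs')
    rw [show Matrix.vecMul (⇑bs) ((bs.toMatrix ⇑bs').map (algebraMap (PowerSeries k) S)) = ⇑bs' from by
      funext j
      conv_rhs => rw [← bs.sum_toMatrix_smul_self (v := ⇑bs') j]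
      simp [Matrix.vecMul, dotProduct, Algebra.smul_def, mul_comm]] at h
    rw [h]
    have hu : IsUnit ((bs.toMatrix ⇑bs').det) := by
      rw [← Module.Basis.det_apply]
      exact Module.Basis.isUnit_det bs bs'
    exact ((associated_isUnit_mul_left_iff (hu.pow 2)).2 (Associated.refl _)).symm
  refine ⟨⟨?_, ?_⟩, fun n hn => ?_⟩
  · rintro ⟨bS, hb⟩
    let J : Ideal (PowerSeries k) := (Subalgebra.toSubmodule S).comap (LinearMap.toSpanSingleton (PowerSeries k) T (B 1))
    have hJmem : ∀ t : T, t ∈ S ↔ B.repr t 1 ∈ J := fun t => by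
      show t ∈ S ↔ B.repr t 1 • B 1 ∈ Subalgebra.toSubmodule S
      conv_lhs => rw [basis_sum B h0 t]
      exact Submodule.add_mem_iff_right (Subalgebra.toSubmodule S) (Submodule.smul_mem _ _ (one_mem S))
    have hJ : J ≠ ⊥ := fun hJ => by
      have hs : ∀ z : S, z = B.repr z.1 0 • (1 : S) := fun z => Subtype.ext (by
        conv_lhs => rw [basis_sum B h0 z.1]
        rw [show B.repr z.1 1 = 0 from by simpa [hJ] using (hJmem z.1).1 z.2, zero_smul, add_zero]
        rfl)
      have h := bS.linearIndependent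
      have := Fintype.linearIndependent_iff.1 h ![B.repr (bS 1).1 0, -B.repr (bS 0).1 0] (by
        rw [Fin.sum_univ_two, Matrix.cons_val_zero, Matrix.cons_val_one, Matrix.cons_val_fin_one]
        conv_lhs => arg 1; rw [hs (bS 0)]
        conv_lhs => arg 2; rw [hs (bS 1)]
        rw [neg_smul, smul_smul, smul_smul, mul_comm, add_neg_cancel]) 1
      simp at this
      exact bS.ne_zero 0 (by rw [hs (bS 0), this, zero_smul])
    obtain ⟨n, hn⟩ := IsDiscreteValuationRing.ideal_eq_span_pow_irreducible hJ (X_prime (R := k)).irreducible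
    have hS : Subalgebra.toSubmodule S = Submodule.span (PowerSeries k) {(1 : T)} ⊔ Ideal.span {(X : (PowerSeries k)) ^ n} • (⊤ : Submodule (PowerSeries k) T) := by
      ext t
      rw [Subalgebra.mem_toSubmodule, hJmem, hn, Ideal.mem_span_singleton, span_eq B h0]
    obtain ⟨bs, e0, e1⟩ := key n hS
    refine ⟨n, ?_, hS⟩
    have h := ((Ideal.span_singleton_eq_span_singleton.1 hb).symm.trans (hbc bS bs)).trans (hdisc n bs e0 e1)
    obtain ⟨u, hu⟩ := h
    have hu' := congrArg order hu
    rw [order_mul, order_X_pow, order_X_pow, order_zero_of_unit u.isUnit, add_zero] at hu'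
    exact_mod_cast hu'
  · rintro ⟨n, rfl, hn⟩
    obtain ⟨bs, e0, e1⟩ := key n hn
    exact ⟨bs, Ideal.span_singleton_eq_span_singleton.2 (hdisc n bs e0 e1)⟩
  · obtain ⟨bs, e0, e1⟩ := key n hn
    set f : Polynomial (PowerSeries k) := Polynomial.X ^ 2 - Polynomial.C ((X : (PowerSeries k)) ^ (2 * n) * c)
    have hf : f.Monic := Polynomial.monic_X_pow_sub_C _ two_ne_zero
    let φ : AdjoinRoot f →ₐ[(PowerSeries k)] S := AdjoinRoot.liftAlgHom f (Algebra.ofId (PowerSeries k) S) (bs 1)
      (by simp [f, Polynomial.eval₂_sub, Polynomial.eval₂_pow, pow_two, e1, Algebra.ofId_apply])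
    let PB := AdjoinRoot.powerBasis' hf
    have hdim : PB.dim = 2 := Polynomial.natDegree_X_pow_sub_C
    have hφ : ∀ i, φ ((PB.basis.reindex (finCongr hdim)) i) = bs i := fun i => by
      fin_cases i
      · simp [e0, φ, PB]
      · simp [φ, PB]
    have : (φ.toLinearMap) = ((PB.basis.reindex (finCongr hdim)).equiv bs (Equiv.refl _)).toLinearMap :=
      (PB.basis.reindex (finCongr hdim)).ext fun i => by
        simp only [AlgHom.toLinearMap_apply, LinearEquiv.coe_coe, Module.Basis.equiv_apply, Equiv.refl_apply, hφ]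
    exact ⟨(AlgEquiv.ofBijective φ (show Function.Bijective φ.toLinearMap by rw [this]; exact LinearEquiv.bijective _)).symm⟩

end quadratic

end Crimp51
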