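import Mathlib

/-! Linear and quadratic forms in finitely many variables. -/

universe u

namespace Conic51

open MvPolynomial

variable {k : Type u} [Field k] {n : ℕ}

/-- coefficient vector of a linear form -/
noncomputable def vec (z : MvPolynomial (Fin n) k) (i : Fin n) : k := z.coeff (Finsupp.single i 1)

theorem eq_sum {z : MvPolynomial (Fin n) k} (hz : z.IsHomogeneous 1) : z = ∑ i, vec z i • X i := by
  classical
  ext d
  rw [coeff_sum]
  simp only [coeff_smul, coeff_X', smul_eq_mul, mul_ite, mul_one, mul_zero]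
  by_cases hd : ∃ i, d = Finsupp.single i 1
  · obtain ⟨i, rfl⟩ := hd
    rw [Finset.sum_eq_single i (fun j _ hj => if_neg fun h => hj (Finsupp.single_left_injective one_ne_zero h)) (by simp),
      if_pos rfl]
    rfl
  · rw [Finset.sum_eq_zero fun i _ => if_neg fun h => hd ⟨i, h.symm⟩]
    by_contra h
    have hdeg : Finsupp.weight 1 d = 1 := hz h
    rw [Finsupp.weight_apply] at hdeg
    simp at hdeg
    obtain ⟨i, hi⟩ : ∃ i, d i ≠ 0 := by
      by_contra hall
      push Not at hall
      simp [Finsupp.sum, hall] at hdeg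
    refine hd ⟨i, Finsupp.ext fun j => ?_⟩
    rw [Finsupp.sum_fintype _ _ (fun _ => rfl), ← Finset.add_sum_erase _ _ (Finset.mem_univ i)] at hdeg
    have h1 : ∑ x ∈ Finset.univ.erase i, d x = 0 := by omega
    rcases eq_or_ne j i with rfl | hj
    · simp; omega
    · rw [Finsupp.single_eq_of_ne hj]
      exact (Finset.sum_eq_zero_iff.1 h1) j (Finset.mem_erase.2 ⟨hj, Finset.mem_univ _⟩)

theorem eval_linear (a v : Fin n → k) : eval v (∑ i, a i • X i : MvPolynomial (Fin n) k) = a ⬝ᵥ v := by
  simp [dotProduct, smul_eval]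

theorem eval_pderiv_linear (a v : Fin n → k) (i : Fin n) :
    eval v (pderiv i (∑ j, a j • X j : MvPolynomial (Fin n) k)) = a i := by
  classical
  rw [map_sum, map_sum, Finset.sum_eq_single i]
  · simp [smul_eval]
  · intro j _ hj
    simp [smul_eval, pderiv_X_of_ne hj]
  · simp

/-- the quadratic form of a matrix -/
noncomputable def qf (Q : Matrix (Fin n) (Fin n) k) : MvPolynomial (Fin n) k :=
  ∑ i, ∑ j, Q i j • (X i * X j)

theorem eval_qf (Q : Matrix (Fin n) (Fin n) k) (v : Fin n → k) : eval v (qf Q) = v ⬝ᵥ Q.mulVec v := by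
  simp only [qf, map_sum, smul_eval, map_mul, eval_X, dotProduct, Matrix.mulVec, Finset.mul_sum]
  exact Finset.sum_congr rfl fun i _ => Finset.sum_congr rfl fun j _ => by ring

theorem linear_homogeneous (a : Fin n → k) : (∑ i, a i • X i : MvPolynomial (Fin n) k).IsHomogeneous 1 :=
  IsHomogeneous.sum _ _ _ fun i _ => by
    rw [smul_eq_C_mul]; exact (isHomogeneous_X k i).C_mul _

theorem qf_homogeneous (Q : Matrix (Fin n) (Fin n) k) : (qf Q).IsHomogeneous 2 :=
  IsHomogeneous.sum _ _ _ fun i _ => IsHomogeneous.sum _ _ _ fun j _ => by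
    rw [smul_eq_C_mul]; exact ((isHomogeneous_X k i).mul (isHomogeneous_X k j)).C_mul _

/-- the symmetric matrix of a product of two linear forms -/
def prodMat (a b : Fin n → k) : Matrix (Fin n) (Fin n) k := fun i j => (a i * b j + b i * a j) / 2

theorem qf_prodMat [CharZero k] (a b : Fin n → k) :
    qf (prodMat a b) = (∑ i, a i • X i) * (∑ i, b i • X i) := by
  classical
  have h2 : ((C ((2 : k)⁻¹)) * 2 : MvPolynomial (Fin n) k) = 1 := by
    rw [← map_ofNat (C : k →+* MvPolynomial (Fin n) k) 2, ← C_mul, inv_mul_cancel₀ two_ne_zero, C_1]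
  simp only [qf, prodMat, smul_eq_C_mul, div_eq_mul_inv, C_mul, C_add]
  calc _ = C ((2 : k)⁻¹) * (∑ i, ∑ j, (C (a i) * X i) * (C (b j) * X j) + ∑ i, ∑ j, (C (b i) * X i) * (C (a j) * X j)) := by
        simp only [Finset.mul_sum, ← Finset.sum_add_distrib]
        exact Finset.sum_congr rfl fun i _ => Finset.sum_congr rfl fun j _ => by ring
    _ = C ((2 : k)⁻¹) * 2 * ((∑ i, C (a i) * X i) * (∑ j, C (b j) * X j)) := by
        rw [← Finset.sum_mul_sum, ← Finset.sum_mul_sum]; ring
    _ = _ := by rw [h2, one_mul]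

theorem eq_of_qf_eq [CharZero k] {Q Q' : Matrix (Fin n) (Fin n) k} (hQ : Q.IsSymm) (hQ' : Q'.IsSymm)
    (h : qf Q = qf Q') : Q = Q' := by
  classical
  have hv : ∀ v, v ⬝ᵥ Q.mulVec v = v ⬝ᵥ Q'.mulVec v := fun v => by rw [← eval_qf, ← eval_qf, h]
  ext i j
  have hi := hv (Pi.single i 1)
  have hj := hv (Pi.single j 1)
  have hij := hv (Pi.single i 1 + Pi.single j 1)
  simp [Matrix.mulVec_add, add_dotProduct, dotProduct_add] at hi hj hij
  rw [hQ.apply i j, hQ'.apply i j] at hij
  linear_combination (1 / 2 : k) * (hij - hi - hj)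

theorem mulVec_prodMat [CharZero k] (a b v : Fin n → k) :
    (prodMat a b).mulVec v = ((b ⬝ᵥ v) / 2) • a + ((a ⬝ᵥ v) / 2) • b := by
  funext i
  simp only [Matrix.mulVec, dotProduct, prodMat, Pi.add_apply, Pi.smul_apply, smul_eq_mul, Finset.sum_div,
    Finset.sum_mul, ← Finset.sum_add_distrib]
  exact Finset.sum_congr rfl fun j _ => by ring

theorem rank_prodMat_le [CharZero k] (a b : Fin n → k) : (prodMat a b).rank ≤ 2 := by
  classical
  rw [Matrix.rank]
  refine le_trans (Submodule.finrank_mono (t := Submodule.span k ({a, b} : Finset (Fin n → k))) ?_) ?_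
  · rintro _ ⟨v, rfl⟩
    rw [Matrix.mulVecLin_apply, mulVec_prodMat]
    exact add_mem (Submodule.smul_mem _ _ (Submodule.subset_span (by simp)))
      (Submodule.smul_mem _ _ (Submodule.subset_span (by simp)))
  · exact (finrank_span_finset_le_card _).trans Finset.card_le_two

theorem rank_prodMat_same [CharZero k] (a : Fin n → k) (ha : prodMat a a ≠ 0) : (prodMat a a).rank = 1 := by
  classical
  refine le_antisymm ?_ (Nat.one_le_iff_ne_zero.2 fun h => ha ?_)
  · rw [Matrix.rank]
    refine le_trans (Submodule.finrank_mono (t := Submodule.span k ({a} : Finset (Fin n → k))) ?_) ?_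
    · rintro _ ⟨v, rfl⟩
      rw [Matrix.mulVecLin_apply, mulVec_prodMat, ← add_smul]
      exact Submodule.smul_mem _ _ (Submodule.subset_span (by simp))
    · exact (finrank_span_finset_le_card _).trans (by simp)
  · rw [Matrix.rank, Submodule.finrank_eq_zero, LinearMap.range_eq_bot] at h
    ext i j
    simpa using congrFun (LinearMap.congr_fun h (Pi.single j 1)) i

theorem surjective_dot (P : Fin n → Fin n → k) (h : LinearIndependent k P) (w : Fin n → k) :
    ∃ v, ∀ i, P i ⬝ᵥ v = w i := by
  obtain ⟨v, hv⟩ := (Matrix.mulVec_surjective_iff_isUnit.2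
    (Matrix.linearIndependent_rows_iff_isUnit.1 h)) w
  exact ⟨v, fun i => congrFun hv i⟩

theorem rank_prodMat [CharZero k] (a b : Fin n → k) (hab : LinearIndependent k ![a, b]) :
    (prodMat a b).rank = 2 := by
  classical
  refine le_antisymm (rank_prodMat_le a b) ?_
  rw [Matrix.rank]
  have hsur : ∀ w : Fin 2 → k, ∃ v, ∀ i, ![a, b] i ⬝ᵥ v = w i := fun w => by
    have h : Function.Surjective (Matrix.mulVecLin (Matrix.of ![a, b] : Matrix (Fin 2) (Fin n) k)) := by
      rw [← LinearMap.range_eq_top]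
      refine Submodule.eq_top_of_finrank_eq ?_
      rw [← Matrix.rank.eq_def, LinearIndependent.rank_matrix (M := Matrix.of ![a, b]) hab, Module.finrank_fin_fun, Fintype.card_fin]
    obtain ⟨v, hv⟩ := h w
    exact ⟨v, fun i => congrFun hv i⟩
  have hmem : ∀ v, ((b ⬝ᵥ v) / 2) • a + ((a ⬝ᵥ v) / 2) • b ∈ LinearMap.range (prodMat a b).mulVecLin :=
    fun v => ⟨v, by rw [Matrix.mulVecLin_apply, mulVec_prodMat]⟩
  refine le_trans ?_ (Submodule.finrank_mono (s := Submodule.span k (Set.range ![a, b])) ?_)
  · rw [finrank_span_eq_card hab]; simp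
  · rw [Submodule.span_le, Set.range_subset_iff]
    intro i
    fin_cases i
    · obtain ⟨v, hv⟩ := hsur ![0, 2]
      have h0 := hv 0
      have h1 := hv 1
      simp at h0 h1
      have := hmem v
      rw [h0, h1] at this
      simpa using this
    · obtain ⟨v, hv⟩ := hsur ![2, 0]
      have h0 := hv 0
      have h1 := hv 1
      simp at h0 h1
      have := hmem v
      rw [h0, h1] at this
      simpa using this

/-- diagonalisation of a symmetric matrix -/
theorem exists_diag [CharZero k] (Q : Matrix (Fin n) (Fin n) k) (hQ : Q.IsSymm) :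
    ∃ (R : Matrix (Fin n) (Fin n) k) (d : Fin n → k), IsUnit R ∧ Q = R.transpose * Matrix.diagonal d * R := by
  classical
  haveI : Invertible (2 : k) := invertibleOfNonzero two_ne_zero
  let B : LinearMap.BilinForm k (Fin n → k) := Matrix.toBilin' Q
  have hB : LinearMap.IsSymm B := ⟨fun x y => by
    show B x y = B y x
    simp only [B, Matrix.toBilin'_apply']
    rw [Matrix.dotProduct_mulVec, ← Matrix.mulVec_transpose, hQ.eq, dotProduct_comm]⟩
  obtain ⟨v, hv⟩ := LinearMap.BilinForm.exists_orthogonal_basis hB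
  let v' : Module.Basis (Fin n) k (Fin n → k) := v.reindex (finCongr (Module.finrank_fin_fun k))
  let P : Matrix (Fin n) (Fin n) k := (Pi.basisFun k (Fin n)).toMatrix v'
  have hP : IsUnit P := by
    have := Module.Basis.invertibleToMatrix (Pi.basisFun k (Fin n)) v'
    exact isUnit_of_invertible P
  have hD : P.transpose * Q * P = Matrix.diagonal (fun i => B (v' i) (v' i)) := by
    ext i j
    have e : (P.transpose * Q * P) i j = B (v' i) (v' j) := by
      simp only [B, Matrix.toBilin'_apply', P, Module.Basis.toMatrix, Pi.basisFun_repr, Matrix.mul_apply,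
        Matrix.transpose_apply, dotProduct, Matrix.mulVec, Finset.mul_sum, Finset.sum_mul]
      rw [Finset.sum_comm]
      exact Finset.sum_congr rfl fun x _ => Finset.sum_congr rfl fun y _ => by ring
    rw [e]
    rcases eq_or_ne i j with rfl | hij
    · simp
    · rw [Matrix.diagonal_apply_ne _ hij]
      simp only [v', Module.Basis.reindex_apply]
      exact hv fun h => hij ((finCongr (Module.finrank_fin_fun k)).symm.injective h)
  obtain ⟨u, hu⟩ := hP
  refine ⟨↑u⁻¹, fun i => B (v' i) (v' i), ⟨_, rfl⟩, ?_⟩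
  rw [← hD, ← hu, ← Matrix.mul_assoc, ← Matrix.mul_assoc, ← Matrix.transpose_mul, Units.mul_inv, Matrix.transpose_one,
    Matrix.one_mul, Matrix.mul_assoc, Units.mul_inv, Matrix.mul_one]

theorem qf_diag (R : Matrix (Fin n) (Fin n) k) (d : Fin n → k) :
    qf (R.transpose * Matrix.diagonal d * R) = ∑ l, d l • (∑ i, R l i • X i) ^ 2 := by
  classical
  simp only [qf, Matrix.mul_apply, Matrix.mul_diagonal, Matrix.transpose_apply, pow_two, Finset.sum_mul_sum,
    Finset.smul_sum, Finset.sum_smul, Matrix.diagonal_apply, mul_ite, mul_zero, Finset.sum_ite_eq', Finset.mem_univ, if_true]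
  calc _ = ∑ i, ∑ l, ∑ j, (R l i * d l * R l j) • (X i * X j : MvPolynomial (Fin n) k) :=
        Finset.sum_congr rfl fun i _ => Finset.sum_comm
    _ = ∑ l, ∑ i, ∑ j, (R l i * d l * R l j) • (X i * X j : MvPolynomial (Fin n) k) := Finset.sum_comm
    _ = _ := Finset.sum_congr rfl fun l _ => Finset.sum_congr rfl fun i _ => Finset.sum_congr rfl fun j _ => by
        rw [smul_mul_smul_comm, smul_smul]; congr 1; ring

theorem rank_diag (R : Matrix (Fin n) (Fin n) k) (hR : IsUnit R) (d : Fin n → k) :
    (R.transpose * Matrix.diagonal d * R).rank = Nat.card {i // d i ≠ 0} := by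
  classical
  have hd : IsUnit R.det := (Matrix.isUnit_iff_isUnit_det _).1 hR
  rw [Matrix.rank_mul_eq_left_of_isUnit_det _ _ hd, Matrix.rank_mul_eq_right_of_isUnit_det _ _ (by rwa [Matrix.det_transpose]),
    Matrix.rank_diagonal, Nat.card_eq_fintype_card]

end Conic51
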