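import Mathlib

/-!
The supertrace on a finite product of finite free modules.
-/

set_option autoImplicit false

universe u v w

namespace Groth.Agent.Small51

variable {R : Type u} [CommRing R] {ι : Type v} [Fintype ι] [DecidableEq ι]
  (M : ι → Type w) [∀ i, AddCommGroup (M i)] [∀ i, Module R (M i)]
  [∀ i, Module.Free R (M i)] [∀ i, Module.Finite R (M i)]

/-- The block of an endomorphism of a product. -/
def block (φ : (Π k, M k) →ₗ[R] (Π k, M k)) (i j : ι) : M j →ₗ[R] M i :=
  LinearMap.proj i ∘ₗ φ ∘ₗ LinearMap.single R M j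

theorem trace_signed (s : ι → R) (φ : (Π k, M k) →ₗ[R] (Π k, M k)) :
    LinearMap.trace R (Π k, M k)
      ((∑ i : ι, (LinearMap.single R M i) ∘ₗ (s i • (LinearMap.proj i : (Π k, M k) →ₗ[R] M i))) ∘ₗ φ) =
      ∑ i, s i * LinearMap.trace R (M i) (block M φ i i) := by
  rw [show (∑ i : ι, (LinearMap.single R M i) ∘ₗ (s i • (LinearMap.proj i : (Π k, M k) →ₗ[R] M i))) ∘ₗ φ =
      ∑ i : ι, ((LinearMap.single R M i) ∘ₗ (s i • (LinearMap.proj i : (Π k, M k) →ₗ[R] M i))) ∘ₗ φ from
    LinearMap.ext fun v => by simp, map_sum]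
  refine Finset.sum_congr rfl fun i _ => ?_
  rw [LinearMap.comp_assoc, LinearMap.trace_comp_comm', LinearMap.smul_comp, LinearMap.smul_comp, map_smul,
    smul_eq_mul, LinearMap.comp_assoc]
  rfl

theorem block_comp (φ ψ : (Π k, M k) →ₗ[R] (Π k, M k)) (i j : ι) :
    block M (φ ∘ₗ ψ) i j = ∑ k, block M φ i k ∘ₗ block M ψ k j := by
  ext v
  simp only [block, LinearMap.coe_comp, Function.comp_apply, LinearMap.coe_proj, Function.eval,
    LinearMap.sum_apply]
  have h := LinearMap.sum_single_apply M (ψ (LinearMap.single R M j v))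
  conv_lhs => rw [← h, map_sum, Finset.sum_apply]
  rfl

end Groth.Agent.Small51
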