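import Groth.Agent.CAlg1.Miracle
import Groth.Agent.CAlg1.CMPoly
import Groth.Agent.EGA4Alg4.IntegralDim
import Groth.Agent.E4O.DimField

/-!
Fibres of finite unramified extensions of regular affine varieties have degree many points.
-/

set_option autoImplicit false

universe u

namespace Groth.Agent.UnrDegree51

open IsLocalRing TensorProduct

variable (k A B : Type u) [Field k] [CommRing A] [IsDomain A] [Algebra k A] [Algebra.FiniteType k A]
  [CommRing B] [IsDomain B] [Algebra A B] [Module.Finite A B] [Algebra.FormallyUnramified A B]

include k in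
theorem flat_of_regular (hinj : Function.Injective (algebraMap A B))
    (hA : ∀ (p : Ideal A) [p.IsPrime], IsRegularLocalRing (Localization.AtPrime p))
    (hB : ∀ (q : Ideal B) [q.IsPrime], IsRegularLocalRing (Localization.AtPrime q)) :
    Module.Flat A B := by
  letI : Algebra k B := ((algebraMap A B).comp (algebraMap k A)).toAlgebra
  haveI : IsScalarTower k A B := IsScalarTower.of_algebraMap_eq fun _ => rfl
  haveI : Algebra.FiniteType A B := Module.Finite.finiteType B
  haveI : Algebra.FiniteType k B := Algebra.FiniteType.trans (S := A) inferInstance inferInstance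
  haveI : Algebra.IsIntegral A B := Algebra.IsIntegral.of_finite A B
  have hn : Cardinal.toNat (Algebra.trdeg k B) = Cardinal.toNat (Algebra.trdeg k A) := by
    have h := EGA4Alg4.ringKrullDim_eq_of_integral A B hinj
    rw [E4O.ringKrullDim_eq_trdeg k B, E4O.ringKrullDim_eq_trdeg k A] at h
    exact_mod_cast h
  refine Module.flat_of_isLocalized_maximal (R := A) (S := B) (M := B)
    (fun P => Localization.AtPrime P) (fun P => Algebra.linearMap B (Localization.AtPrime P))
    fun Q _ => ?_
  let p := Q.comap (algebraMap A B)
  haveI : p.IsMaximal := Ideal.isMaximal_comap_of_isIntegral_of_isMaximal Q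
  haveI : Q.LiesOver p := ⟨rfl⟩
  letI := Localization.AtPrime.algebraOfLiesOver p Q
  haveI := hA p
  haveI := hB Q
  haveI := CAlg1.cm_of_isRegularLocalRing (Localization.AtPrime Q)
  haveI : Algebra.IsUnramifiedAt A Q :=
    Algebra.FormallyUnramified.comp A B (Localization.AtPrime Q)
  haveI : Algebra.EssFiniteType (Localization.AtPrime p) (Localization.AtPrime Q) :=
    Algebra.EssFiniteType.of_comp A _ _
  haveI : Algebra.FormallyUnramified (Localization.AtPrime p) (Localization.AtPrime Q) :=
    .of_restrictScalars A _ _
  haveI : IsLocalHom (algebraMap (Localization.AtPrime p) (Localization.AtPrime Q)) := inferInstance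
  have hflat : Module.Flat (Localization.AtPrime p) (Localization.AtPrime Q) := by
    refine CAlg1.miracle_flatness _ _ _ rfl ?_
    rw [Algebra.FormallyUnramified.map_maximalIdeal,
      IsLocalization.AtPrime.ringKrullDim_eq_height Q, IsLocalization.AtPrime.ringKrullDim_eq_height p,
      E4O.height_maximal_eq k B Q, E4O.height_maximal_eq k A p, hn,
      show ringKrullDim (Localization.AtPrime Q ⧸ maximalIdeal (Localization.AtPrime Q)) = 0 from
        ringKrullDim_eq_zero_of_isField
          ((Ideal.Quotient.maximal_ideal_iff_isField_quotient _).1 inferInstance), add_zero]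
  exact Module.Flat.trans A (Localization.AtPrime p) (Localization.AtPrime Q)

include k in
theorem natCard_fibre [IsAlgClosed k] (hinj : Function.Injective (algebraMap A B))
    (hA : ∀ (p : Ideal A) [p.IsPrime], IsRegularLocalRing (Localization.AtPrime p))
    (hB : ∀ (q : Ideal B) [q.IsPrime], IsRegularLocalRing (Localization.AtPrime q))
    (P : PrimeSpectrum A) (hP : P.asIdeal.IsMaximal) :
    Nat.card (PrimeSpectrum.comap (algebraMap A B) ⁻¹' {P}) = Module.finrank A B := by
  haveI := hP
  haveI := flat_of_regular k A B hinj hA hB
  haveI : Algebra.FiniteType A B := Module.Finite.finiteType B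
  haveI : IsNoetherianRing A := Algebra.FiniteType.isNoetherianRing k A
  let K := P.asIdeal.ResidueField
  haveI : Algebra.FiniteType k K := by
    refine Algebra.FiniteType.of_surjective (IsScalarTower.toAlgHom k A K) ?_
    exact Ideal.algebraMap_residueField_surjective P.asIdeal
  haveI : IsAlgClosed K := by
    haveI : Module.Finite k K := finite_of_finite_type_of_isJacobsonRing k K
    haveI : Algebra.IsIntegral k K := Algebra.IsIntegral.of_finite k K
    exact IsAlgClosed.of_ringEquiv k K (RingEquiv.ofBijective (algebraMap k K)
      IsAlgClosed.algebraMap_bijective_of_isIntegral)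
  let T := P.asIdeal.Fiber B
  haveI : Algebra.FormallyUnramified K T := inferInstance
  haveI : Module.Finite K T := inferInstance
  haveI : Algebra.FormallyEtale K T :=
    Algebra.FormallyEtale.iff_formallyUnramified_of_field.2 inferInstance
  haveI : IsArtinianRing T := IsArtinianRing.of_finite K T
  haveI : Fintype (PrimeSpectrum T) := Fintype.ofFinite _
  rw [Nat.card_congr (PrimeSpectrum.preimageEquivFiber A B P), ← P.asIdeal.finrank_fiber_eq_finrank]
  show Nat.card (PrimeSpectrum T) = Module.finrank K T
  rw [(Algebra.FormallyEtale.equivPiOfIsSepClosed K T).toLinearEquiv.finrank_eq, Module.finrank_pi,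
    Nat.card_eq_fintype_card]

end Groth.Agent.UnrDegree51
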