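import Mathlib

/-!
Incidence counting for families of curves meeting pairwise in `h` points.
-/

set_option autoImplicit false

universe u v

namespace Groth.Agent.Small51

variable {P : Type u} {ι : Type v} [Fintype ι] {inc : P → ι → Prop} {h : ℕ}

open scoped Classical in
/-- The curves through a point. -/
noncomputable def thru (inc : P → ι → Prop) (p : P) : Finset ι := Finset.univ.filter (inc p)

theorem natCard_thru (p : P) : Nat.card {j : ι // inc p j} = (thru inc p).card := by
  classical
  rw [Nat.card_eq_fintype_card, Fintype.card_subtype]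
  rfl

theorem mem_thru {p : P} {j : ι} : j ∈ thru inc p ↔ inc p j := by simp [thru]

theorem multiple_finite (hfin : ∀ i j : ι, i ≠ j → {p : P | inc p i ∧ inc p j}.Finite) :
    {p : P | 2 ≤ Nat.card {j : ι // inc p j}}.Finite := by
  classical
  refine ((Finset.univ.offDiag (α := ι)).finite_toSet.biUnion fun q hq => hfin q.1 q.2
    (Finset.mem_offDiag.1 hq).2.2).subset fun p hp => ?_
  obtain ⟨a, ha, b, hb, hab⟩ := Finset.one_lt_card.1 (lt_of_lt_of_le one_lt_two (hp.trans (natCard_thru (inc := inc) p).le))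
  exact Set.mem_biUnion (x := (a, b)) (by simp [hab]) ⟨mem_thru.1 ha, mem_thru.1 hb⟩

/-- The finset of multiple points. -/
noncomputable def multi (hfin : ∀ i j : ι, i ≠ j → {p : P | inc p i ∧ inc p j}.Finite) : Finset P :=
  (multiple_finite hfin).toFinset

theorem mem_multi {hfin : ∀ i j : ι, i ≠ j → {p : P | inc p i ∧ inc p j}.Finite} {p : P} :
    p ∈ multi hfin ↔ 2 ≤ (thru inc p).card := by
  rw [multi, Set.Finite.mem_toFinset, Set.mem_ofPred_eq, natCard_thru]

theorem mem_multi_of_pair {hfin : ∀ i j : ι, i ≠ j → {p : P | inc p i ∧ inc p j}.Finite} {p : P} {i j : ι}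
    (hij : i ≠ j) (hi : inc p i) (hj : inc p j) : p ∈ multi hfin :=
  mem_multi.2 (Finset.one_lt_card.2 ⟨i, mem_thru.2 hi, j, mem_thru.2 hj, hij⟩)

theorem natCard_multi (hfin : ∀ i j : ι, i ≠ j → {p : P | inc p i ∧ inc p j}.Finite) :
    Nat.card {p : P // 2 ≤ Nat.card {j : ι // inc p j}} = (multi hfin).card :=
  (Set.ncard_eq_toFinset_card _ (multiple_finite hfin))

end Groth.Agent.Small51
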