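import Mathlib
import Groth.Prelude.Def_W4c2movlemaddchowShuffle

/-!
Factoring shuffles of three blocks through shuffles of two blocks.
-/

set_option autoImplicit false

open Equiv W4c2movlemaddchow

namespace Groth.Agent.Small51

theorem monotone_reflect {a b n : ℕ} {g : Fin a → Fin n} (hg : Monotone g) (hinj : Function.Injective g)
    {h : Fin b → Fin a} : Monotone h ↔ Monotone (g ∘ h) :=
  ⟨fun hh => hg.comp hh, fun hh _ _ hij => (hg.strictMono_of_injective hinj).le_iff_le.1 (hh hij)⟩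

theorem perm_eq_of_monotone {a n : ℕ} {f : Fin a → Fin n} (hf : Function.Injective f) {σ τ : Perm (Fin a)}
    (hσ : Monotone (f ∘ σ)) (hτ : Monotone (f ∘ τ)) : σ = τ :=
  Equiv.ext fun i => hf (congrFun (Tuple.unique_monotone hσ hτ) i)

variable (r s t : ℕ)

theorem extRight_castAdd (a : ℕ) (σ : Perm (Fin a)) (i : Fin a) :
    extRight a t σ (Fin.castAdd t i) = Fin.castAdd t (σ i) := by
  simp [extRight, Equiv.permCongr_apply]

theorem extRight_natAdd (a : ℕ) (σ : Perm (Fin a)) (i : Fin t) :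
    extRight a t σ (Fin.natAdd a i) = Fin.natAdd a i := by
  simp [extRight, Equiv.permCongr_apply]

theorem sign_extRight (a : ℕ) (σ : Perm (Fin a)) : Perm.sign (extRight a t σ) = Perm.sign σ := by
  simp [extRight, Perm.sign_permCongr, Perm.sign_sumCongr]

theorem extLeft_left (σ : Perm (Fin (s + t))) (i : Fin r) :
    extLeft r s t σ (Fin.castAdd t (Fin.castAdd s i)) = Fin.castAdd t (Fin.castAdd s i) := by
  have h : finCongr (Nat.add_assoc r s t) (Fin.castAdd t (Fin.castAdd s i)) = Fin.castAdd (s + t) i := Fin.ext rfl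
  simp only [extLeft, Equiv.permCongr_apply, Equiv.symm_symm, h, finSumFinEquiv_symm_apply_castAdd,
    Equiv.sumCongr_apply, Sum.map_inl, Equiv.coe_refl, id_eq, finSumFinEquiv_apply_left]
  exact Fin.ext rfl

theorem extLeft_right (σ : Perm (Fin (s + t))) (j : Fin (s + t)) :
    extLeft r s t σ (Fin.cast (Nat.add_assoc r s t).symm (Fin.natAdd r j)) =
      Fin.cast (Nat.add_assoc r s t).symm (Fin.natAdd r (σ j)) := by
  have h : finCongr (Nat.add_assoc r s t) (Fin.cast (Nat.add_assoc r s t).symm (Fin.natAdd r j)) = Fin.natAdd r j :=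
    Fin.ext rfl
  simp only [extLeft, Equiv.permCongr_apply, Equiv.symm_symm, h, finSumFinEquiv_symm_apply_natAdd,
    Equiv.sumCongr_apply, Sum.map_inr, finSumFinEquiv_apply_right]
  exact Fin.ext rfl

theorem sign_extLeft (σ : Perm (Fin (s + t))) : Perm.sign (extLeft r s t σ) = Perm.sign σ := by
  simp [extLeft, Perm.sign_permCongr, Perm.sign_sumCongr]

theorem bijOn_extRight : Set.BijOn
      (fun p : Perm (Fin (r + s + t)) × Perm (Fin (r + s)) => p.1 * extRight (r + s) t p.2)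
      ({τ | IsShuffle₂ (r + s) t τ} ×ˢ {σ | IsShuffle₂ r s σ}) {ν | IsShuffle₃ r s t ν} := by
  have key : ∀ (τ : Perm (Fin (r + s + t))) (σ : Perm (Fin (r + s))), ⇑(τ * extRight (r + s) t σ) ∘ Fin.castAdd t = (τ ∘ Fin.castAdd t) ∘ σ := fun τ σ =>
    funext fun i => congrArg τ (extRight_castAdd t _ σ i)
  have key' : ∀ (τ : Perm (Fin (r + s + t))) (σ : Perm (Fin (r + s))), ⇑(τ * extRight (r + s) t σ) ∘ Fin.natAdd (r + s) = τ ∘ Fin.natAdd (r + s) := fun τ σ =>
    funext fun i => congrArg τ (extRight_natAdd t _ σ i)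
  refine ⟨?_, ?_, ?_⟩
  · rintro ⟨τ, σ⟩ ⟨hτ, hσ⟩
    refine ⟨?_, ?_, ?_⟩
    · show Monotone (((τ * extRight (r + s) t σ) ∘ Fin.castAdd t) ∘ Fin.castAdd s)
      rw [key]; exact hτ.1.comp hσ.1
    · show Monotone (((τ * extRight (r + s) t σ) ∘ Fin.castAdd t) ∘ Fin.natAdd r)
      rw [key]; exact hτ.1.comp hσ.2
    · show Monotone ((τ * extRight (r + s) t σ) ∘ Fin.natAdd (r + s))
      rw [key']; exact hτ.2
  · rintro ⟨τ, σ⟩ ⟨hτ, hσ⟩ ⟨τ', σ'⟩ ⟨hτ', hσ'⟩ he
    simp only at he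
    let f : Fin (r + s) → Fin (r + s + t) := (τ ∘ Fin.castAdd t) ∘ σ
    have hf' : f = (τ' ∘ Fin.castAdd t) ∘ σ' := by
      show (τ ∘ Fin.castAdd t) ∘ σ = _
      rw [← key, ← key, he]
    have h1 : Monotone (f ∘ σ.symm) := by
      have : f ∘ σ.symm = τ ∘ Fin.castAdd t := funext fun i => by simp [f]
      rw [this]; exact hτ.1
    have h2 : Monotone (f ∘ σ'.symm) := by
      have : f ∘ σ'.symm = τ' ∘ Fin.castAdd t := funext fun i => by simp [hf']
      rw [this]; exact hτ'.1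
    have hσe : σ = σ' := Equiv.symm_bijective.injective
      (perm_eq_of_monotone ((τ.injective.comp (Fin.castAdd_injective _ _)).comp σ.injective) h1 h2)
    subst hσe
    rw [mul_right_cancel he]
  · intro ν hν
    let f : Fin (r + s) → Fin (r + s + t) := ν ∘ Fin.castAdd t
    let π := Tuple.sort f
    have hm : Monotone (f ∘ π) := Tuple.monotone_sort f
    refine ⟨(ν * (extRight (r + s) t π.symm)⁻¹, π.symm), ⟨⟨?_, ?_⟩, ⟨?_, ?_⟩⟩, inv_mul_cancel_right _ _⟩
    · have : ⇑(ν * (extRight (r + s) t π.symm)⁻¹) ∘ Fin.castAdd t = f ∘ π := funext fun i => by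
        show ν ((extRight (r + s) t π.symm)⁻¹ (Fin.castAdd t i)) = ν (Fin.castAdd t (π i))
        congr 1
        rw [Perm.inv_eq_iff_eq, extRight_castAdd, Equiv.symm_apply_apply]
      show Monotone (_ ∘ Fin.castAdd t)
      rw [this]; exact hm
    · have : ⇑(ν * (extRight (r + s) t π.symm)⁻¹) ∘ Fin.natAdd (r + s) = ν ∘ Fin.natAdd (r + s) :=
        funext fun i => by
          show ν ((extRight (r + s) t π.symm)⁻¹ (Fin.natAdd (r + s) i)) = ν (Fin.natAdd (r + s) i)
          congr 1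
          rw [Perm.inv_eq_iff_eq, extRight_natAdd]
      show Monotone (_ ∘ Fin.natAdd (r + s))
      rw [this]; exact hν.2.2
    all_goals
      rw [monotone_reflect hm ((ν.injective.comp (Fin.castAdd_injective _ _)).comp π.injective)]
      simp only [Function.comp_def, Equiv.apply_symm_apply, f]
    exacts [hν.1, hν.2.1]

theorem bijOn_extLeft : Set.BijOn
      (fun p : Perm (Fin (r + s + t)) × Perm (Fin (s + t)) => p.1 * extLeft r s t p.2)
      ({τ | IsShuffle₂ r (s + t) ((finCongr (Nat.add_assoc r s t)).permCongr τ)} ×ˢ {σ | IsShuffle₂ s t σ})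
      {ν | IsShuffle₃ r s t ν} := by
  let A : Fin r → Fin (r + s + t) := fun i => Fin.castAdd t (Fin.castAdd s i)
  let B : Fin (s + t) → Fin (r + s + t) := fun j => Fin.cast (Nat.add_assoc r s t).symm (Fin.natAdd r j)
  have hB : Function.Injective B := fun i j h => by simpa [B] using h
  have hiff : ∀ τ : Perm (Fin (r + s + t)),
      IsShuffle₂ r (s + t) ((finCongr (Nat.add_assoc r s t)).permCongr τ) ↔ Monotone (τ ∘ A) ∧ Monotone (τ ∘ B) := by
    intro τ
    have e1 : ∀ i, (finCongr (Nat.add_assoc r s t)).permCongr τ (Fin.castAdd (s + t) i) =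
        Fin.cast (Nat.add_assoc r s t) (τ (A i)) := fun i => by
      rw [Equiv.permCongr_apply]; rfl
    have e2 : ∀ i, (finCongr (Nat.add_assoc r s t)).permCongr τ (Fin.natAdd r i) =
        Fin.cast (Nat.add_assoc r s t) (τ (B i)) := fun i => by
      rw [Equiv.permCongr_apply]; rfl
    unfold IsShuffle₂
    simp only [e1, e2]
    exact Iff.rfl
  have kA : ∀ (τ : Perm (Fin (r + s + t))) (σ : Perm (Fin (s + t))), ⇑(τ * extLeft r s t σ) ∘ A = τ ∘ A := fun τ σ =>
    funext fun i => congrArg τ (extLeft_left r s t σ i)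
  have kB : ∀ (τ : Perm (Fin (r + s + t))) (σ : Perm (Fin (s + t))), ⇑(τ * extLeft r s t σ) ∘ B = (τ ∘ B) ∘ σ := fun τ σ =>
    funext fun i => congrArg τ (extLeft_right r s t σ i)
  have hs3 : ∀ ν : Perm (Fin (r + s + t)), IsShuffle₃ r s t ν ↔
      Monotone (ν ∘ A) ∧ Monotone ((ν ∘ B) ∘ Fin.castAdd t) ∧ Monotone ((ν ∘ B) ∘ Fin.natAdd s) := by
    intro ν
    have e1 : ∀ j, B (Fin.castAdd t j) = Fin.castAdd t (Fin.natAdd r j) := fun j => Fin.ext (by simp [B])
    have e2 : ∀ j, B (Fin.natAdd s j) = Fin.natAdd (r + s) j := fun j => Fin.ext (by simp [B]; omega)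
    unfold IsShuffle₃
    simp only [Function.comp_def, e1, e2]
    exact Iff.rfl
  refine ⟨?_, ?_, ?_⟩
  · rintro ⟨τ, σ⟩ ⟨hτ, hσ⟩
    obtain ⟨hτA, hτB⟩ := (hiff τ).1 hτ
    show IsShuffle₃ r s t (τ * extLeft r s t σ)
    rw [hs3, kA, kB]
    exact ⟨hτA, hτB.comp hσ.1, hτB.comp hσ.2⟩
  · rintro ⟨τ, σ⟩ ⟨hτ, hσ⟩ ⟨τ', σ'⟩ ⟨hτ', hσ'⟩ he
    simp only at he
    let f : Fin (s + t) → Fin (r + s + t) := (τ ∘ B) ∘ σ
    have hf' : f = (τ' ∘ B) ∘ σ' := by
      show (τ ∘ B) ∘ σ = _
      rw [← kB, ← kB, he]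
    have h1 : Monotone (f ∘ σ.symm) := by
      have : f ∘ σ.symm = τ ∘ B := funext fun i => by simp [f]
      rw [this]; exact ((hiff τ).1 hτ).2
    have h2 : Monotone (f ∘ σ'.symm) := by
      have : f ∘ σ'.symm = τ' ∘ B := funext fun i => by simp [hf']
      rw [this]; exact ((hiff τ').1 hτ').2
    have hσe : σ = σ' := Equiv.symm_bijective.injective
      (perm_eq_of_monotone ((τ.injective.comp hB).comp σ.injective) h1 h2)
    subst hσe
    rw [mul_right_cancel he]
  · intro ν hν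
    obtain ⟨hνA, hν1, hν2⟩ := (hs3 ν).1 hν
    let f : Fin (s + t) → Fin (r + s + t) := ν ∘ B
    let π := Tuple.sort f
    have hm : Monotone (f ∘ π) := Tuple.monotone_sort f
    have hτA : ⇑(ν * (extLeft r s t π.symm)⁻¹) ∘ A = ν ∘ A := funext fun i => by
      show ν ((extLeft r s t π.symm)⁻¹ (A i)) = ν (A i)
      congr 1
      rw [Perm.inv_eq_iff_eq]
      exact (extLeft_left r s t _ i).symm
    have hτB : ⇑(ν * (extLeft r s t π.symm)⁻¹) ∘ B = f ∘ π := funext fun i => by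
      show ν ((extLeft r s t π.symm)⁻¹ (B i)) = ν (B (π i))
      congr 1
      rw [Perm.inv_eq_iff_eq]
      exact ((extLeft_right r s t π.symm (π i)).trans (by rw [Equiv.symm_apply_apply])).symm
    refine ⟨(ν * (extLeft r s t π.symm)⁻¹, π.symm), ⟨(hiff _).2 ⟨by rw [hτA]; exact hνA, by rw [hτB]; exact hm⟩,
      ⟨?_, ?_⟩⟩, inv_mul_cancel_right _ _⟩
    all_goals
      rw [monotone_reflect hm ((ν.injective.comp hB).comp π.injective)]
      simp only [Function.comp_def, Equiv.apply_symm_apply, f]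
    exacts [hν1, hν2]

end Groth.Agent.Small51
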