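import Mathlib

namespace Groth.Agent.Small51

theorem altSum_divPow {R : Type*} [CommRing R] [Algebra ℚ R] (y : R) (k : ℕ) (hk : 1 ≤ k) :
    (∑ i ∈ Finset.Ico 1 (k + 1), (-1 : R) ^ (i - 1) * (((Nat.factorial i : ℚ)⁻¹) • y ^ i) *
      (((Nat.factorial (k - i) : ℚ)⁻¹) • y ^ (k - i))) = ((Nat.factorial k : ℚ)⁻¹) • y ^ k := by
  have h0 : ∑ i ∈ Finset.range (k + 1), (-1 : R) ^ i * (((Nat.factorial i : ℚ)⁻¹) • y ^ i) *
      (((Nat.factorial (k - i) : ℚ)⁻¹) • y ^ (k - i)) = 0 := by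
    have h : ∀ i ∈ Finset.range (k + 1), (-1 : R) ^ i * (((Nat.factorial i : ℚ)⁻¹) • y ^ i) *
        (((Nat.factorial (k - i) : ℚ)⁻¹) • y ^ (k - i)) =
          algebraMap ℚ R (((-1 : ℚ) ^ i * k.choose i) * (Nat.factorial k : ℚ)⁻¹) * y ^ k := by
      intro i hi
      have hik : i ≤ k := by simpa [Nat.lt_succ_iff] using hi
      have hq : ((-1 : ℚ) ^ i * k.choose i) * (Nat.factorial k : ℚ)⁻¹ =
          (-1 : ℚ) ^ i * (Nat.factorial i : ℚ)⁻¹ * (Nat.factorial (k - i) : ℚ)⁻¹ := by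
        rw [Nat.cast_choose ℚ hik]
        field_simp
      rw [hq, Algebra.smul_def, Algebra.smul_def, map_mul, map_mul, map_pow, map_neg, map_one]
      conv_rhs => rw [← Nat.add_sub_cancel' hik, pow_add]
      rw [Nat.add_sub_cancel_left]
      ring
    rw [Finset.sum_congr rfl h, ← Finset.sum_mul, ← map_sum, ← Finset.sum_mul]
    have := Int.alternating_sum_range_choose_of_ne (n := k) (by omega)
    have h2 : ∑ i ∈ Finset.range (k + 1), (-1 : ℚ) ^ i * k.choose i = 0 := by exact_mod_cast this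
    rw [h2, zero_mul, map_zero, zero_mul]
  rw [Finset.range_eq_Ico, Finset.sum_eq_sum_Ico_succ_bot (by omega)] at h0
  simp only [pow_zero, Nat.factorial_zero, Nat.cast_one, inv_one, one_smul, one_mul, Nat.sub_zero,
    mul_one] at h0
  have : ∑ i ∈ Finset.Ico 1 (k + 1), (-1 : R) ^ i * (((Nat.factorial i : ℚ)⁻¹) • y ^ i) *
      (((Nat.factorial (k - i) : ℚ)⁻¹) • y ^ (k - i)) =
      - ∑ i ∈ Finset.Ico 1 (k + 1), (-1 : R) ^ (i - 1) * (((Nat.factorial i : ℚ)⁻¹) • y ^ i) *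
        (((Nat.factorial (k - i) : ℚ)⁻¹) • y ^ (k - i)) := by
    rw [← Finset.sum_neg_distrib]
    refine Finset.sum_congr rfl fun i hi => ?_
    obtain ⟨j, rfl⟩ : ∃ j, i = j + 1 := ⟨i - 1, by simp at hi; omega⟩
    simp only [Nat.add_sub_cancel, pow_succ]
    ring
  rw [this] at h0
  exact (eq_of_sub_eq_zero (by linear_combination h0)).symm

end Groth.Agent.Small51
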