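import Groth.Prelude.Def_W4c3dlvarstrshPar
import Mathlib

/-! Column echelon forms modulo parabolic subgroups, and exactness of the parahoric complex. -/

namespace Echelon51

open W4c3dlvarstrsh Matrix

variable {F : Type*} [Field F] {m : ℕ}

local notation "G" => GL (Fin (m + 1)) F

/-- `i` is the lowest nonzero row of `v` -/
def Low (v : Fin (m + 1) → F) (i : Fin (m + 1)) : Prop := v i ≠ 0 ∧ ∀ r, i < r → v r = 0

theorem Low.unique {v : Fin (m + 1) → F} {i j} (hi : Low v i) (hj : Low v j) : i = j := by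
  rcases lt_trichotomy i j with h | h | h
  · exact absurd (hi.2 j h) hj.1
  · exact h
  · exact absurd (hj.2 i h) hi.1

theorem exists_low {v : Fin (m + 1) → F} (hv : v ≠ 0) : ∃ i, Low v i := by
  classical
  obtain ⟨i, hi⟩ := Function.ne_iff.1 hv
  let S := Finset.univ.filter fun r => v r ≠ 0
  have hS : S.Nonempty := ⟨i, Finset.mem_filter.2 ⟨Finset.mem_univ _, hi⟩⟩
  refine ⟨S.max' hS, (Finset.mem_filter.1 (S.max'_mem hS)).2, fun r hr => ?_⟩
  by_contra h
  exact absurd (S.le_max' r (Finset.mem_filter.2 ⟨Finset.mem_univ _, h⟩)) (not_le.2 hr)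

/-- column echelon matrix with pivot rows `π` -/
structure Ech (g : G) (π : Fin (m + 1) → Fin (m + 1)) : Prop where
  low : ∀ j, Low (fun r => (g : Matrix (Fin (m + 1)) (Fin (m + 1)) F) r j) (π j)
  inj : Function.Injective π

theorem low_mul {g : G} {π} (h : Ech g π) (p : G) (b : Fin (m + 1)) :
    ∃ a, (p : Matrix (Fin (m + 1)) (Fin (m + 1)) F) a b ≠ 0 ∧ (∀ a', (p : Matrix (Fin (m + 1)) (Fin (m + 1)) F) a' b ≠ 0 → π a' ≤ π a) ∧
      Low (fun r => ((g * p : G) : Matrix (Fin (m + 1)) (Fin (m + 1)) F) r b) (π a) := by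
  classical
  let S := Finset.univ.filter fun a => (p : Matrix (Fin (m + 1)) (Fin (m + 1)) F) a b ≠ 0
  have hS : S.Nonempty := by
    by_contra hne
    have : (p : Matrix (Fin (m + 1)) (Fin (m + 1)) F).det = 0 := Matrix.det_eq_zero_of_column_eq_zero b fun a => by
      by_contra h
      exact hne ⟨a, Finset.mem_filter.2 ⟨Finset.mem_univ _, h⟩⟩
    exact Matrix.GeneralLinearGroup.det_ne_zero p this
  obtain ⟨a, ha, hmax⟩ := S.exists_max_image π hS
  have ha' := (Finset.mem_filter.1 ha).2
  have hmax' : ∀ a', (p : Matrix (Fin (m + 1)) (Fin (m + 1)) F) a' b ≠ 0 → π a' ≤ π a := fun a' h =>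
    hmax a' (Finset.mem_filter.2 ⟨Finset.mem_univ _, h⟩)
  refine ⟨a, ha', hmax', ?_, fun r hr => ?_⟩
  · simp only [Units.val_mul, Matrix.mul_apply]
    rw [Finset.sum_eq_single a]
    · exact mul_ne_zero (h.low a).1 ha'
    · intro a' _ hne
      by_cases h0 : (p : Matrix (Fin (m + 1)) (Fin (m + 1)) F) a' b = 0
      · rw [h0, mul_zero]
      · have := lt_of_le_of_ne (hmax' a' h0) fun e => hne (h.inj e)
        have h0' : (g : Matrix (Fin (m + 1)) (Fin (m + 1)) F) (π a) a' = 0 := (h.low a').2 _ this
        rw [h0', zero_mul]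
    · simp
  · simp only [Units.val_mul, Matrix.mul_apply]
    refine Finset.sum_eq_zero fun a' _ => ?_
    by_cases h0 : (p : Matrix (Fin (m + 1)) (Fin (m + 1)) F) a' b = 0
    · rw [h0, mul_zero]
    · have h0' : (g : Matrix (Fin (m + 1)) (Fin (m + 1)) F) r a' = 0 := (h.low a').2 r (lt_of_le_of_lt (hmax' a' h0) hr)
      rw [h0', zero_mul]

theorem blockOf_mono (J : Finset (Fin m)) {i j : Fin (m + 1)} (h : i ≤ j) : blockOf J i ≤ blockOf J j := by
  classical
  refine Finset.card_le_card fun k hk => ?_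
  simp only [Finset.mem_filter, Finset.mem_univ, true_and] at hk ⊢
  exact ⟨lt_of_lt_of_le hk.1 h, hk.2⟩

theorem mem_J_of_blockOf_eq {J : Finset (Fin m)} {a b : Fin (m + 1)} (h : blockOf J a = blockOf J b)
    (k : Fin m) (ha : (a : ℕ) ≤ k) (hb : (k : ℕ) < b) : k ∈ J := by
  classical
  by_contra hk
  refine absurd h (ne_of_lt (Finset.card_lt_card ?_))
  refine (Finset.ssubset_iff_of_subset fun l hl => ?_).2 ⟨k, ?_, ?_⟩
  · simp only [Finset.mem_filter, Finset.mem_univ, true_and] at hl ⊢
    exact ⟨by omega, hl.2⟩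
  · simp [hk, hb]
  · simp; omega

theorem blockOf_eq_of_mem {J : Finset (Fin m)} {k : Fin m} (hk : k ∈ J) : blockOf J k.succ = blockOf J k.castSucc := by
  classical
  unfold blockOf
  congr 1
  ext l
  simp only [Finset.mem_filter, Finset.mem_univ, true_and, Fin.val_succ, Fin.val_castSucc]
  refine ⟨fun ⟨h1, h2⟩ => ⟨?_, h2⟩, fun ⟨h1, h2⟩ => ⟨by omega, h2⟩⟩
  rcases Nat.lt_succ_iff_lt_or_eq.1 h1 with h | h
  · exact h
  · exact absurd (Fin.ext h ▸ hk) h2

theorem blockOf_empty (i : Fin (m + 1)) : blockOf (∅ : Finset (Fin m)) i = i := by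
  classical
  unfold blockOf
  simp only [Finset.notMem_empty, not_false_eq_true, and_true]
  rw [Fin.card_filter_val_lt]
  omega

theorem parabolic_mono {J J' : Finset (Fin m)} (h : J ⊆ J') : parabolic F J ≤ parabolic F J' := by
  classical
  intro p hp i j hij
  refine hp ?_
  by_contra hle
  push Not at hle
  rcases le_or_gt i j with e | e
  · exact absurd (blockOf_mono J' e) (not_le.2 hij)
  · have hle' := blockOf_mono J e.le
    have heq : blockOf J j = blockOf J i := le_antisymm hle' hle
    refine absurd hij (not_lt.2 (le_of_eq ?_))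
    unfold blockOf
    congr 1
    ext l
    simp only [Finset.mem_filter, Finset.mem_univ, true_and]
    refine ⟨fun ⟨h1, h2⟩ => ⟨?_, h2⟩, fun ⟨h1, h2⟩ => ⟨lt_trans h1 e, h2⟩⟩
    by_contra hl
    exact h2 (h (mem_J_of_blockOf_eq heq l (not_lt.1 hl) h1))

theorem borel_le (J : Finset (Fin m)) : parabolic F (∅ : Finset (Fin m)) ≤ parabolic F J :=
  parabolic_mono (Finset.empty_subset J)

theorem mem_borel {p : G} : p ∈ parabolic F (∅ : Finset (Fin m)) ↔ ∀ i j, j < i → (p : Matrix (Fin (m + 1)) (Fin (m + 1)) F) i j = 0 := by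
  refine ⟨fun h i j hij => h (by rw [blockOf_empty, blockOf_empty]; exact hij), fun h i j hij => h i j ?_⟩
  rw [blockOf_empty, blockOf_empty] at hij
  exact hij

theorem ech_unique {g g' : G} {π π'} (h : Ech g π) (h' : Ech g' π') (hb : g⁻¹ * g' ∈ parabolic F (∅ : Finset (Fin m))) :
    π = π' := by
  have key : ∀ (g g' : G) (π π'), Ech g π → Ech g' π' → g⁻¹ * g' ∈ parabolic F (∅ : Finset (Fin m)) → ∀ j, π j ≤ π' j := by
    intro g g' π π' h h' hb j
    obtain ⟨a, -, hmax, hlow⟩ := low_mul h (g⁻¹ * g') j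
    rw [mul_inv_cancel_left] at hlow
    rw [(h'.low j).unique hlow]
    refine hmax j fun h0 => ?_
    have hd : ((g⁻¹ * g' : G) : Matrix (Fin (m + 1)) (Fin (m + 1)) F).det = 0 := by
      rw [Matrix.det_of_upperTriangular fun i j hij => mem_borel.1 hb i j hij]
      exact Finset.prod_eq_zero (Finset.mem_univ j) h0
    exact Matrix.GeneralLinearGroup.det_ne_zero _ hd
  funext j
  exact le_antisymm (key g g' π π' h h' hb j) (key g' g π' π h' h (by
    have := inv_mem hb
    rwa [_root_.mul_inv_rev, inv_inv] at this) j)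

theorem exists_ech (g : G) : ∃ b ∈ parabolic F (∅ : Finset (Fin m)), ∃ π, Ech (g * b) π := by
  classical
  let U : Fin (m + 1) → (Fin (m + 1) → F) → Prop := fun j c => c j = 1 ∧ ∀ a, j < a → c a = 0
  have hne : ∀ j c, U j c → (g : Matrix (Fin (m + 1)) (Fin (m + 1)) F).mulVec c ≠ 0 := fun j c hc h => by
    have := congrArg ((↑g⁻¹ : Matrix (Fin (m + 1)) (Fin (m + 1)) F).mulVec) h
    rw [Matrix.mulVec_mulVec, Units.inv_mul, Matrix.one_mulVec, Matrix.mulVec_zero] at this
    exact one_ne_zero (hc.1.symm.trans (congrFun this j))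
  have hex : ∀ j, ∃ i : ℕ, ∃ (c : Fin (m + 1) → F) (r : Fin (m + 1)), U j c ∧ (r : ℕ) = i ∧ Low ((g : Matrix (Fin (m + 1)) (Fin (m + 1)) F).mulVec c) r :=
    fun j => by
      have hU : U j (Pi.single j 1) := ⟨Pi.single_eq_same _ _, fun a ha => Pi.single_eq_of_ne ha.ne' _⟩
      obtain ⟨r, hr⟩ := exists_low (hne j _ hU)
      exact ⟨r, _, r, hU, rfl, hr⟩
  choose c π hU hπ hlow using fun j => Nat.find_spec (hex j)
  let B : Matrix (Fin (m + 1)) (Fin (m + 1)) F := Matrix.of fun a j => c j a
  have hdet : B.det ≠ 0 := by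
    rw [Matrix.det_of_upperTriangular (M := B) (fun i j hij => (hU j).2 i hij)]
    exact Finset.prod_ne_zero_iff.2 fun j _ => by simp [B, (hU j).1]
  refine ⟨Matrix.GeneralLinearGroup.mkOfDetNeZero B hdet, mem_borel.2 fun i j hij => (hU j).2 i hij, π, ⟨fun j => ?_, ?_⟩⟩
  · have e : (fun r => ((g * Matrix.GeneralLinearGroup.mkOfDetNeZero B hdet : G) : Matrix (Fin (m + 1)) (Fin (m + 1)) F) r j) =
        (g : Matrix (Fin (m + 1)) (Fin (m + 1)) F).mulVec (c j) := funext fun r => rfl
    rw [e]; exact hlow j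
  · intro a b hab
    by_contra hne'
    wlog hlt : a < b generalizing a b
    · exact this hab.symm (Ne.symm hne') (lt_of_le_of_ne (not_lt.1 hlt) (Ne.symm hne'))
    set va := (g : Matrix (Fin (m + 1)) (Fin (m + 1)) F).mulVec (c a)
    set vb := (g : Matrix (Fin (m + 1)) (Fin (m + 1)) F).mulVec (c b)
    let c' := c b - (vb (π b) / va (π b)) • c a
    have hU' : U b c' := ⟨by simp [c', (hU b).1, (hU a).2 b hlt], fun x hx => by
      simp [c', (hU b).2 x hx, (hU a).2 x (hlt.trans hx)]⟩
    obtain ⟨r, hr⟩ := exists_low (hne b c' hU')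
    have hva : va (π b) ≠ 0 := hab ▸ (hlow a).1
    have hr' : r < π b := by
      by_contra h
      refine hr.1 ?_
      rcases eq_or_lt_of_le (not_lt.1 h) with e | e
      · rw [← e]
        simp only [c', Matrix.mulVec_sub, Matrix.mulVec_smul, Pi.sub_apply, Pi.smul_apply, smul_eq_mul]
        show vb (π b) - vb (π b) / va (π b) * va (π b) = 0
        rw [div_mul_cancel₀ _ hva, sub_self]
      · simp only [c', Matrix.mulVec_sub, Matrix.mulVec_smul, Pi.sub_apply, Pi.smul_apply, smul_eq_mul]
        show vb r - _ * va r = 0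
        have e1 : vb r = 0 := (hlow b).2 r e
        have e2 : va r = 0 := (hlow a).2 r (hab.symm ▸ e)
        rw [e1, e2, mul_zero, sub_zero]
    exact Nat.find_min (hex b) (m := r) (by rw [← hπ b]; exact hr') ⟨c', r, hU', rfl, hr⟩

/-- the pivot permutation of `g B` -/
noncomputable def piv (g : G) : Fin (m + 1) → Fin (m + 1) := (exists_ech g).choose_spec.2.choose

theorem exists_piv (g : G) : ∃ b ∈ parabolic F (∅ : Finset (Fin m)), Ech (g * b) (piv g) :=
  ⟨_, (exists_ech g).choose_spec.1, (exists_ech g).choose_spec.2.choose_spec⟩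

theorem piv_eq {g g' : G} {π} (h : Ech g' π) (hb : g⁻¹ * g' ∈ parabolic F (∅ : Finset (Fin m))) : piv g = π := by
  obtain ⟨b, hb', he⟩ := exists_piv g
  refine ech_unique he h ?_
  rw [_root_.mul_inv_rev, mul_assoc]
  exact mul_mem (inv_mem hb') hb

theorem piv_mul {g b : G} (hb : b ∈ parabolic F (∅ : Finset (Fin m))) : piv (g * b) = piv g := by
  obtain ⟨c, hc, he⟩ := exists_piv g
  refine piv_eq he ?_
  rw [show (g * b)⁻¹ * (g * c) = b⁻¹ * c by group]
  exact mul_mem (inv_mem hb) hc

/-- minimality in the coset -/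
def IsMin (J : Finset (Fin m)) (g : G) : Prop := ∀ k ∈ J, piv g k.castSucc < piv g k.succ

theorem IsMin.lt_of_block {J : Finset (Fin m)} {g : G} (h : IsMin J g) {a b : Fin (m + 1)}
    (hbl : blockOf J a = blockOf J b) (hab : a < b) : piv g a < piv g b := by
  obtain ⟨d, hd⟩ : ∃ d : ℕ, (b : ℕ) = a + d + 1 := ⟨(b : ℕ) - a - 1, by omega⟩
  induction d generalizing b with
  | zero =>
    have hk : (a : ℕ) < m := by omega
    have := h ⟨a, hk⟩ (mem_J_of_blockOf_eq hbl ⟨a, hk⟩ le_rfl (by simp; omega))
    rwa [show (⟨(a : ℕ), hk⟩ : Fin m).castSucc = a from rfl,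
      show (⟨(a : ℕ), hk⟩ : Fin m).succ = b from Fin.ext hd.symm] at this
  | succ d ih =>
    have hk : (a : ℕ) + d + 1 < m := by omega
    have hmem := mem_J_of_blockOf_eq hbl ⟨a + d + 1, hk⟩ (by simp; omega) (by simp; omega)
    have hb : b = (⟨a + d + 1, hk⟩ : Fin m).succ := Fin.ext (by simp; omega)
    rw [hb] at hbl ⊢
    exact (ih (b := (⟨a + d + 1, hk⟩ : Fin m).castSucc) (hbl.trans (blockOf_eq_of_mem hmem))
      (by simp only [Fin.lt_def, Fin.val_castSucc]; omega) rfl).trans (h _ hmem)

theorem min_unique {J : Finset (Fin m)} {g p : G} (hp : p ∈ parabolic F J) (h : IsMin J g) (h' : IsMin J (g * p)) :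
    p ∈ parabolic F (∅ : Finset (Fin m)) := by
  classical
  obtain ⟨b, hb, he⟩ := exists_piv g
  obtain ⟨b', hb', he'⟩ := exists_piv (g * p)
  set p' := b⁻¹ * p * b' with hp'
  have hp'J : p' ∈ parabolic F J := mul_mem (mul_mem (inv_mem (borel_le J hb)) hp) (borel_le J hb')
  have heq : g * p * b' = (g * b) * p' := by rw [hp']; group
  suffices hT : p' ∈ parabolic F (∅ : Finset (Fin m)) by
    have : p = b * p' * b'⁻¹ := by rw [hp']; group
    rw [this]
    exact mul_mem (mul_mem hb hT) (inv_mem hb')
  set π := piv g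
  set π' := piv (g * p)
  choose A hA hAmax hAlow using low_mul he p'
  have hπ' : ∀ j, π' j = π (A j) := fun j => (he'.low j).unique (by rw [heq]; exact hAlow j)
  have hblock : ∀ j, blockOf J (A j) ≤ blockOf J j := fun j => by
    by_contra hlt
    exact hA j (hp'J (not_le.1 hlt))
  have hAinj : Function.Injective A := fun x y e => he'.inj (by rw [hπ', hπ', e])
  have hbeq : ∀ j, blockOf J (A j) = blockOf J j := fun j => le_antisymm (hblock j) <| by
    have hsum : ∑ i, blockOf J (A i) = ∑ i, blockOf J i :=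
      (Finite.injective_iff_bijective.1 hAinj).sum_comp (blockOf J)
    by_contra hlt
    exact absurd hsum (Finset.sum_lt_sum (fun i _ => hblock i) ⟨j, Finset.mem_univ _, not_le.1 hlt⟩).ne
  have hAmono : ∀ x y, blockOf J x = blockOf J y → x < y → A x < A y := fun x y e hxy => by
    rcases lt_trichotomy (A x) (A y) with h1 | h1 | h1
    · exact h1
    · exact absurd (hAinj h1) hxy.ne
    · have h2 := h.lt_of_block ((hbeq y).trans (e.symm.trans (hbeq x).symm)) h1
      change π (A y) < π (A x) at h2
      rw [← hπ', ← hπ'] at h2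
      exact absurd (h'.lt_of_block e hxy) (not_lt.2 h2.le)
  have hsm : StrictMono A := fun x y hxy => by
    rcases eq_or_lt_of_le (blockOf_mono J hxy.le) with e | e
    · exact hAmono x y e hxy
    · by_contra hle
      have := blockOf_mono J (not_lt.1 hle)
      rw [hbeq, hbeq] at this
      omega
  have hid : A = id := by
    funext x
    exact le_antisymm (hsm.le_id x) (hsm.id_le x)
  refine mem_borel.2 fun i j hij => ?_
  by_contra h0
  have h1 := hAmax j i h0
  rw [hid, id] at h1
  have hbl : blockOf J j = blockOf J i := le_antisymm (blockOf_mono J hij.le) (by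
    by_contra hlt
    exact h0 (hp'J (not_le.1 hlt)))
  exact absurd (h.lt_of_block hbl hij) (not_lt.2 h1)

/-- a statistic that is largest at the minimal element of a coset -/
noncomputable def phi (g : G) : ℕ := ∑ j : Fin (m + 1), (j : ℕ) * (piv g j : ℕ)

theorem isMin_of_max {J : Finset (Fin m)} {g : G} (hmax : ∀ q ∈ parabolic F J, phi (g * q) ≤ phi g) : IsMin J g := by
  classical
  intro k hk
  by_contra hlt
  obtain ⟨b, hb, he⟩ := exists_piv g
  set π := piv g
  let σ : Equiv.Perm (Fin (m + 1)) := Equiv.swap k.castSucc k.succ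
  let s : G := Matrix.GeneralLinearGroup.mkOfDetNeZero (σ.permMatrix F) (by
    rw [Matrix.det_permutation]; exact (Units.map (Int.castRingHom F).toMonoidHom (Equiv.Perm.sign σ)).ne_zero)
  have hs : ∀ i j, (s : Matrix (Fin (m + 1)) (Fin (m + 1)) F) i j = if σ i = j then 1 else 0 := fun i j => by
    show σ.permMatrix F i j = _
    simp [Equiv.Perm.permMatrix, PEquiv.toMatrix_apply, Equiv.toPEquiv_apply]
  have hsJ : s ∈ parabolic F J := fun i j hij => by
    rw [hs, if_neg]
    intro e
    subst e
    rcases eq_or_ne i k.castSucc with rfl | h1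
    · rw [Equiv.swap_apply_left, blockOf_eq_of_mem hk] at hij; exact lt_irrefl _ hij
    rcases eq_or_ne i k.succ with rfl | h2
    · rw [Equiv.swap_apply_right, blockOf_eq_of_mem hk] at hij; exact lt_irrefl _ hij
    rw [Equiv.swap_apply_of_ne_of_ne h1 h2] at hij
    exact lt_irrefl _ hij
  have hcol : ∀ r j, ((g * b * s : G) : Matrix (Fin (m + 1)) (Fin (m + 1)) F) r j = ((g * b : G) : Matrix (Fin (m + 1)) (Fin (m + 1)) F) r (σ j) := fun r j => by
    rw [Units.val_mul (g * b) s, Matrix.mul_apply, Finset.sum_eq_single (σ j)]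
    · rw [hs, if_pos (Equiv.swap_apply_self _ _ _), mul_one]
    · intro a _ ha
      rw [hs, if_neg fun e => ha (by rw [← e]; exact (Equiv.swap_apply_self _ _ _).symm), mul_zero]
    · simp
  have he' : Ech (g * b * s) (π ∘ σ) :=
    ⟨fun j => by simp only [hcol]; exact he.low (σ j), he.inj.comp σ.injective⟩
  have hpiv : piv (g * (b * s)) = π ∘ σ := by
    refine piv_eq he' ?_
    rw [show (g * (b * s))⁻¹ * (g * b * s) = 1 by group]
    exact one_mem _
  have hle : phi (g * (b * s)) ≤ phi g :=
    hmax _ (mul_mem (borel_le J hb) hsJ)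
  have hgt : phi g < phi (g * (b * s)) := by
    simp only [phi, hpiv]
    show ∑ j : Fin (m + 1), (j : ℕ) * (π j : ℕ) < ∑ j : Fin (m + 1), (j : ℕ) * (π (σ j) : ℕ)
    have hne' : k.castSucc ≠ k.succ := (Fin.castSucc_lt_succ).ne
    have hsub : ({k.castSucc, k.succ} : Finset (Fin (m + 1))) ⊆ Finset.univ := Finset.subset_univ _
    rw [← Finset.sum_sdiff hsub, ← Finset.sum_sdiff hsub (f := fun j : Fin (m + 1) => (j : ℕ) * (π (σ j) : ℕ)),
      Finset.sum_pair hne', Finset.sum_pair hne', Equiv.swap_apply_left, Equiv.swap_apply_right]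
    have hrest : ∀ j ∈ Finset.univ \ ({k.castSucc, k.succ} : Finset (Fin (m + 1))), (j : ℕ) * (π (σ j) : ℕ) = (j : ℕ) * (π j : ℕ) :=
      fun j hj => by
        simp only [Finset.mem_sdiff, Finset.mem_insert, Finset.mem_singleton, not_or] at hj
        rw [Equiv.swap_apply_of_ne_of_ne hj.2.1 hj.2.2]
    rw [Finset.sum_congr rfl hrest]
    have hpos : (π k.succ : ℕ) < π k.castSucc :=
      lt_of_le_of_ne (not_lt.1 hlt) fun e => hne' (he.inj (Fin.ext e.symm))
    simp only [Fin.val_castSucc, Fin.val_succ]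
    nlinarith
  omega

theorem exists_min (J : Finset (Fin m)) (g : G) :
    ∃ p ∈ parabolic F J, IsMin J (g * p) ∧ ∀ q ∈ parabolic F J, phi (g * q) ≤ phi (g * p) := by
  let S : Set ℕ := {N | ∃ p ∈ parabolic F J, phi (g * p) = N}
  have hbdd : BddAbove S := ⟨∑ j : Fin (m + 1), (j : ℕ) * (m + 1), by
    rintro N ⟨p, -, rfl⟩
    exact Finset.sum_le_sum fun j _ => Nat.mul_le_mul_left _ (Fin.is_lt _).le⟩
  have hne : S.Nonempty := ⟨_, 1, one_mem _, rfl⟩
  obtain ⟨p, hp, hN⟩ := Nat.sSup_mem hne hbdd
  have hmax : ∀ q ∈ parabolic F J, phi (g * q) ≤ phi (g * p) := fun q hq => hN ▸ le_csSup hbdd ⟨q, hq, rfl⟩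
  exact ⟨p, hp, isMin_of_max fun q hq => by rw [mul_assoc]; exact hmax _ (mul_mem hp hq), hmax⟩

theorem phi_lt {J : Finset (Fin m)} {g p : G} (hp : p ∈ parabolic F J) (hg : IsMin J g)
    (hnb : p ∉ parabolic F (∅ : Finset (Fin m))) : phi (g * p) < phi g := by
  obtain ⟨q, hq, hmin, hmax⟩ := exists_min J g
  have hqb := min_unique hq hg hmin
  have hphi : phi (g * q) = phi g := by simp only [phi, piv_mul hqb]
  refine lt_of_le_of_ne (hphi ▸ hmax p hp) fun h => hnb (min_unique hp hg (isMin_of_max fun r hr => ?_))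
  rw [h, mul_assoc]
  exact hphi ▸ hmax _ (mul_mem hp hr)

section complex

variable {R : Type*} [CommRing R] [Fintype F] {r : ℕ}

theorem sgn_sq (T : Finset (Fin r)) (a : Fin r) : sgn T a * sgn T a = 1 := by
  rw [sgn, ← pow_add, ← two_mul, pow_mul]; simp

theorem sgn_swap (U : Finset (Fin r)) (a a0 : Fin r) (ha : a ∉ U) (h0 : a0 ∉ U) (hne : a ≠ a0) :
    sgn (insert a0 U) a * sgn (insert a U) a0 = -(sgn U a * sgn U a0) := by
  classical
  simp only [sgn, Finset.filter_insert, ← pow_add]
  rcases lt_or_gt_of_ne hne with h | h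
  · rw [if_neg (not_lt.2 h.le), if_pos h, Finset.card_insert_of_notMem (by simp [ha])]
    simp only [pow_add, pow_succ, pow_zero]
    ring
  · rw [if_pos h, if_neg (not_lt.2 h.le), Finset.card_insert_of_notMem (by simp [h0])]
    simp only [pow_add, pow_succ, pow_zero]
    ring

/-- exactness of the augmented chain complex of a simplex -/
theorem simplex_exact {c : ℕ} (S : Finset (Fin r)) (hS : S.Nonempty) (v : {T : Finset (Fin r) // T.card = c + 1} → R)
    (hvS : ∀ T, v T ≠ 0 → T.1 ⊆ S)
    (hv : ∀ T : {T : Finset (Fin r) // T.card = c}, (Finset.univ.sum fun a : Fin r =>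
      if h : a ∉ T.1 then (sgn T.1 a : R) * v ⟨insert a T.1, by rw [Finset.card_insert_of_notMem h, T.2]⟩ else 0) = 0) :
    ∃ w : {T : Finset (Fin r) // T.card = c + 2} → R, (∀ T, w T ≠ 0 → T.1 ⊆ S) ∧
      ∀ T : {T : Finset (Fin r) // T.card = c + 1}, (Finset.univ.sum fun a : Fin r =>
        if h : a ∉ T.1 then (sgn T.1 a : R) * w ⟨insert a T.1, by rw [Finset.card_insert_of_notMem h, T.2]⟩ else 0) = v T := by
  classical
  obtain ⟨a0, ha0⟩ := hS
  let w : {T : Finset (Fin r) // T.card = c + 2} → R := fun T =>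
    if h : a0 ∈ T.1 then (sgn (T.1.erase a0) a0 : R) * v ⟨T.1.erase a0, by rw [Finset.card_erase_of_mem h, T.2]; omega⟩ else 0
  have hw : ∀ (T : {T : Finset (Fin r) // T.card = c + 2}) (U : {T : Finset (Fin r) // T.card = c + 1}),
      a0 ∈ T.1 → T.1.erase a0 = U.1 → w T = (sgn U.1 a0 : R) * v U := fun T U h e => by
    simp only [w, dif_pos h]
    rw [show (⟨T.1.erase a0, _⟩ : {T : Finset (Fin r) // T.card = c + 1}) = U from Subtype.ext e, e]
  refine ⟨w, fun T hT => ?_, fun T => ?_⟩
  · by_cases h : a0 ∈ T.1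
    · simp only [w, dif_pos h] at hT
      have := hvS _ (right_ne_zero_of_mul hT)
      intro x hx
      by_cases hx0 : x = a0
      · exact hx0 ▸ ha0
      · exact this (Finset.mem_erase.2 ⟨hx0, hx⟩)
    · simp only [w, dif_neg h, ne_eq, not_true_eq_false] at hT
  have hsq : ∀ U : Finset (Fin r), (sgn U a0 : R) * (sgn U a0 : R) = 1 := fun U => by
    exact_mod_cast congrArg (fun z : ℤ => (z : R)) (sgn_sq U a0)
  by_cases h0 : a0 ∈ T.1
  · let U : {T : Finset (Fin r) // T.card = c} := ⟨T.1.erase a0, by rw [Finset.card_erase_of_mem h0, T.2]; omega⟩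
    have hU0 : a0 ∉ U.1 := Finset.notMem_erase _ _
    have hTU : insert a0 U.1 = T.1 := Finset.insert_erase h0
    have hvU := hv U
    rw [← Finset.add_sum_erase _ _ (Finset.mem_univ a0), dif_pos hU0] at hvU
    rw [← Finset.add_sum_erase _ _ (Finset.mem_univ a0), dif_neg (by simpa using h0), zero_add]
    have hterm : ∀ a ∈ Finset.univ.erase a0,
        (if h : a ∉ T.1 then (sgn T.1 a : R) * w ⟨insert a T.1, by rw [Finset.card_insert_of_notMem h, T.2]⟩ else 0) =
        -(sgn U.1 a0 : R) * (if h : a ∉ U.1 then (sgn U.1 a : R) * v ⟨insert a U.1, by rw [Finset.card_insert_of_notMem h, U.2]⟩ else 0) := by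
      intro a ha
      have hne := Finset.ne_of_mem_erase ha
      have hiff : a ∉ T.1 ↔ a ∉ U.1 := by simp [U, hne]
      by_cases hm : a ∉ T.1
      · rw [dif_pos hm, dif_pos (hiff.1 hm), hw _ ⟨insert a U.1, by rw [Finset.card_insert_of_notMem (hiff.1 hm), U.2]⟩
          (Finset.mem_insert_of_mem h0) (Finset.erase_insert_of_ne hne)]
        have hs : (sgn T.1 a : R) * (sgn (insert a U.1) a0 : R) = -((sgn U.1 a : R) * (sgn U.1 a0 : R)) := by
          have := congrArg (fun z : ℤ => (z : R)) (sgn_swap U.1 a a0 (hiff.1 hm) hU0 hne)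
          rw [hTU] at this
          simpa using this
        rw [← mul_assoc, hs]; ring
      · rw [dif_neg hm, dif_neg (fun h => hm (hiff.2 h)), mul_zero]
    rw [Finset.sum_congr rfl hterm, ← Finset.mul_sum, eq_neg_of_add_eq_zero_right hvU,
      show (⟨insert a0 U.1, _⟩ : {T : Finset (Fin r) // T.card = c + 1}) = T from Subtype.ext hTU]
    linear_combination v T * hsq U.1
  · rw [Finset.sum_eq_single a0]
    · rw [dif_pos h0, hw _ T (Finset.mem_insert_self _ _) (Finset.erase_insert h0), ← mul_assoc, hsq, one_mul]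
    · intro a _ hne
      by_cases hm : a ∉ T.1
      · rw [dif_pos hm]
        have : a0 ∉ insert a T.1 := by simp [h0, Ne.symm hne]
        simp only [w, dif_neg this, mul_zero]
      · rw [dif_neg hm]
    · simp

theorem isInduced_delta {ω : Fin r ↪ Fin m} {c : ℕ} {g : Cochain F R (m := m) r (c + 1)} (hg : IsInduced ω g) :
    IsInduced ω (delta c g) := by
  intro T x p hp
  simp only [delta]
  refine Finset.sum_congr rfl fun a _ => ?_
  by_cases h : a ∉ T.1
  · simp only [dif_pos h]
    have hsub : T.1.map ω ⊆ (insert a T.1).map ω := Finset.map_subset_map.2 (Finset.subset_insert a T.1)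
    have := hg ⟨insert a T.1, by rw [Finset.card_insert_of_notMem h, T.2]⟩ x p (parabolic_mono hsub hp)
    rw [this]
  · simp only [dif_neg h]

theorem exact_main (ω : Fin r ↪ Fin m) (c : ℕ) :
    ∀ (N : ℕ) (f : Cochain F R (m := m) r (c + 1)), IsInduced ω f → delta c f = 0 →
      (∀ T g, N ≤ phi g → f T g = 0) →
      ∃ h : Cochain F R (m := m) r (c + 2), IsInduced ω h ∧ delta (c + 1) h = f := by
  classical
  intro N
  induction N with
  | zero =>
    intro f _ _ hf
    exact ⟨0, fun T g p _ => rfl, by funext T g; simp [delta, hf T g (Nat.zero_le _)]⟩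
  | succ N ih =>
    intro f hf hd hN
    let X := G ⧸ parabolic F (∅ : Finset (Fin m))
    haveI : Fintype X := Fintype.ofFinite _
    let rep : X → G := fun x => x.out
    let K : X → Finset (Fin m) := fun x => Finset.univ.filter fun k => piv (rep x) k.castSucc < piv (rep x) k.succ
    let S : X → Finset (Fin r) := fun x => Finset.univ.filter fun a => ω a ∈ K x
    have hKmin : ∀ x, IsMin (K x) (rep x) := fun x k hk => (Finset.mem_filter.1 hk).2
    let v : X → {T : Finset (Fin r) // T.card = c + 1} → R := fun x T => if phi (rep x) = N then f T (rep x) else 0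
    have hsupp : ∀ x T, v x T ≠ 0 → T.1 ⊆ S x := by
      intro x T hT
      simp only [v] at hT
      split_ifs at hT with hx
      swap
      · exact absurd rfl hT
      intro a ha
      refine Finset.mem_filter.2 ⟨Finset.mem_univ _, Finset.mem_filter.2 ⟨Finset.mem_univ _, ?_⟩⟩
      refine (isMin_of_max (J := T.1.map ω) fun q hq => ?_) (ω a) (Finset.mem_map_of_mem _ ha)
      by_contra hlt
      refine hT ?_
      rw [← hf T (rep x) q hq]
      exact hN T _ (by omega)
    have hsol : ∀ x, ∃ w : {T : Finset (Fin r) // T.card = c + 2} → R, (∀ T, w T ≠ 0 → T.1 ⊆ S x) ∧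
        ∀ T : {T : Finset (Fin r) // T.card = c + 1}, (Finset.univ.sum fun a : Fin r =>
          if h : a ∉ T.1 then (sgn T.1 a : R) * w ⟨insert a T.1, by rw [Finset.card_insert_of_notMem h, T.2]⟩ else 0) = v x T := by
      intro x
      by_cases hS : (S x).Nonempty
      · refine simplex_exact (S x) hS (v x) (hsupp x) fun T => ?_
        by_cases hx : phi (rep x) = N
        · simp only [v, if_pos hx]
          exact congrFun (congrFun hd T) (rep x)
        · simp [v, if_neg hx]
      · refine ⟨0, by simp, fun T => ?_⟩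
        have : v x T = 0 := by
          by_contra hne
          obtain ⟨a, ha⟩ := Finset.card_pos.1 (by rw [T.2]; omega : 0 < T.1.card)
          exact hS ⟨a, hsupp x T hne ha⟩
        simp [this]
    choose w hwS hw using hsol
    let e : X → G → R := fun x g => if (rep x)⁻¹ * g ∈ parabolic F (K x) then 1 else 0
    let h₀ : Cochain F R (m := m) r (c + 2) := fun T g => ∑ x, if phi (rep x) = N then w x T * e x g else 0
    have hh₀ : IsInduced ω h₀ := fun T g p hp => by
      refine Finset.sum_congr rfl fun x _ => ?_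
      by_cases hx : phi (rep x) = N
      · simp only [if_pos hx]
        by_cases h0 : w x T = 0
        · simp [h0]
        have hpK : p ∈ parabolic F (K x) := parabolic_mono (fun k hk => by
          obtain ⟨a, ha, rfl⟩ := Finset.mem_map.1 hk
          exact (Finset.mem_filter.1 (hwS x T h0 ha)).2) hp
        simp only [e, ← mul_assoc, (parabolic F (K x)).mul_mem_cancel_right hpK]
      · simp [if_neg hx]
    have hd₀ : ∀ T g, delta (c + 1) h₀ T g = ∑ x, if phi (rep x) = N then v x T * e x g else 0 := fun T g => by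
      calc delta (c + 1) h₀ T g = ∑ x, if phi (rep x) = N then (Finset.univ.sum fun a : Fin r =>
            if h : a ∉ T.1 then (sgn T.1 a : R) * w x ⟨insert a T.1, by rw [Finset.card_insert_of_notMem h, T.2]⟩ else 0) * e x g else 0 := by
            simp only [delta, h₀, Finset.sum_mul]
            rw [show (∑ x : X, if phi (rep x) = N then ∑ a : Fin r, (if h : a ∉ T.1 then (sgn T.1 a : R) * w x ⟨insert a T.1, by rw [Finset.card_insert_of_notMem h, T.2]⟩ else 0) * e x g else 0) =
              ∑ x : X, ∑ a : Fin r, if phi (rep x) = N then (if h : a ∉ T.1 then (sgn T.1 a : R) * w x ⟨insert a T.1, by rw [Finset.card_insert_of_notMem h, T.2]⟩ else 0) * e x g else 0 from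
              Finset.sum_congr rfl fun x _ => by split_ifs <;> simp, Finset.sum_comm]
            refine Finset.sum_congr rfl fun a _ => ?_
            by_cases ha : a ∉ T.1
            · simp only [dif_pos ha]
              rw [Finset.mul_sum]
              exact Finset.sum_congr rfl fun x _ => by split_ifs <;> ring
            · simp [dif_neg ha]
        _ = _ := Finset.sum_congr rfl fun x _ => by rw [hw]
    have hrep : ∀ g : G, (rep (QuotientGroup.mk g : X))⁻¹ * g ∈ parabolic F (∅ : Finset (Fin m)) := fun g =>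
      QuotientGroup.eq.1 (Quotient.out_eq _)
    have hphi : ∀ (g : G), phi (rep (QuotientGroup.mk g : X)) = phi g := fun g => by
      have := hrep g
      rw [← mul_inv_cancel_left (rep (QuotientGroup.mk g : X)) g]
      simp only [phi, piv_mul this]
      rw [mul_inv_cancel_left]
    have hzero : ∀ T g, N ≤ phi g → (f - delta (c + 1) h₀) T g = 0 := fun T g hg => by
      simp only [Pi.sub_apply, hd₀]
      rw [Finset.sum_eq_single (QuotientGroup.mk g : X)]
      · rcases eq_or_lt_of_le hg with e' | e'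
        · simp only [v, if_pos ((hphi g).trans e'.symm), e]
          rw [if_pos (borel_le _ (hrep g)), mul_one, sub_eq_zero]
          have := hf T (rep (QuotientGroup.mk g : X)) _ (borel_le _ (hrep g))
          rwa [mul_inv_cancel_left] at this
        · rw [if_neg (by rw [hphi]; omega), hN T g e', sub_zero]
      · intro x _ hx
        by_cases hxN : phi (rep x) = N
        · rw [if_pos hxN]
          simp only [e]
          split_ifs with hm
          · have hnb : (rep x)⁻¹ * g ∉ parabolic F (∅ : Finset (Fin m)) := fun hb => hx (by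
              rw [← Quotient.out_eq x]; exact QuotientGroup.eq.2 hb)
            have := phi_lt hm (hKmin x) hnb
            rw [mul_inv_cancel_left] at this
            omega
          · rw [mul_zero]
        · rw [if_neg hxN]
      · simp
    obtain ⟨h₁, hh₁, hd₁⟩ := ih (f - delta (c + 1) h₀)
      (fun T g p hp => by simp only [Pi.sub_apply, hf T g p hp, isInduced_delta hh₀ T g p hp])
      (by
        funext T g
        have h1 : delta c (f - delta (c + 1) h₀) T g = delta c f T g - delta c (delta (c + 1) h₀) T g := by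
          simp only [delta, ← Finset.sum_sub_distrib, Pi.sub_apply]
          refine Finset.sum_congr rfl fun a _ => ?_
          split_ifs <;> ring
        rw [h1, hd, Pi.zero_apply, Pi.zero_apply, zero_sub, neg_eq_zero]
        -- `delta ∘ delta = 0` on the layer
        simp only [delta]
        calc _ = ∑ x, if phi (rep x) = N then (Finset.univ.sum fun a : Fin r =>
              if h : a ∉ T.1 then (sgn T.1 a : R) * v x ⟨insert a T.1, by rw [Finset.card_insert_of_notMem h, T.2]⟩ else 0) * e x g else 0 := by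
              rw [show (∑ x : X, if phi (rep x) = N then (Finset.univ.sum fun a : Fin r =>
                  if h : a ∉ T.1 then (sgn T.1 a : R) * v x ⟨insert a T.1, by rw [Finset.card_insert_of_notMem h, T.2]⟩ else 0) * e x g else 0) =
                ∑ x : X, ∑ a : Fin r, if phi (rep x) = N then (if h : a ∉ T.1 then (sgn T.1 a : R) * v x ⟨insert a T.1, by rw [Finset.card_insert_of_notMem h, T.2]⟩ else 0) * e x g else 0 from
                Finset.sum_congr rfl fun x _ => by split_ifs <;> simp [Finset.sum_mul], Finset.sum_comm]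
              refine Finset.sum_congr rfl fun a _ => ?_
              by_cases ha : a ∉ T.1
              · simp only [dif_pos ha]
                rw [show (∑ b : Fin r, _) = _ from hd₀ ⟨insert a T.1, by rw [Finset.card_insert_of_notMem ha, T.2]⟩ g, Finset.mul_sum]
                exact Finset.sum_congr rfl fun x _ => by split_ifs <;> ring
              · simp [dif_neg ha]
          _ = 0 := Finset.sum_eq_zero fun x _ => by
              by_cases hx : phi (rep x) = N
              · simp only [if_pos hx, v]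
                have := congrFun (congrFun hd T) (rep x)
                simp only [delta, Pi.zero_apply] at this
                rw [this, zero_mul]
              · rw [if_neg hx])
      hzero
    refine ⟨h₀ + h₁, fun T g p hp => by simp only [Pi.add_apply, hh₀ T g p hp, hh₁ T g p hp], ?_⟩
    have : delta (c + 1) (h₀ + h₁) = delta (c + 1) h₀ + delta (c + 1) h₁ := by
      funext T g
      simp only [delta, Pi.add_apply, ← Finset.sum_add_distrib]
      exact Finset.sum_congr rfl fun a _ => by split_ifs <;> ring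
    rw [this, hd₁, add_sub_cancel]

theorem exact (ω : Fin r ↪ Fin m) (c : ℕ) (f : Cochain F R (m := m) r (c + 1)) (hf : IsInduced ω f) (hd : delta c f = 0) :
    ∃ h : Cochain F R (m := m) r (c + 2), IsInduced ω h ∧ delta (c + 1) h = f :=
  exact_main ω c ((∑ j : Fin (m + 1), (j : ℕ) * (m + 1)) + 1) f hf hd fun _ g hg =>
    absurd hg (not_le.2 (Nat.lt_succ_of_le (Finset.sum_le_sum fun j _ => Nat.mul_le_mul_left _ (Fin.is_lt _).le)))

end complex

end Echelon51
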