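import Groth.Prelude.Def_W4stktopologysheavesDim
import Mathlib.Topology.Sober
import Mathlib.Topology.Spectral.Basic
import Mathlib.Topology.NoetherianSpace

/-! The soberification of a space. -/

universe u

open TopologicalSpace

namespace Sober51

variable {X : Type u} [TopologicalSpace X]

/-- a point of the soberification as a closed set -/
def cs (Z : PtTop.Sob X) : IrreducibleCloseds X := Z

/-- the irreducible closed subsets meeting `U` -/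
def O (U : Set X) : Set (PtTop.Sob X) := {Z : IrreducibleCloseds X | ((Z : Set X) ∩ U).Nonempty}

theorem isOpen_O {U : Set X} (hU : IsOpen U) : IsOpen (O U) :=
  TopologicalSpace.isOpen_generateFrom_of_mem ⟨⟨U, hU⟩, rfl⟩

theorem O_inter {U V : Set X} (hU : IsOpen U) (hV : IsOpen V) : O U ∩ O V = O (U ∩ V) := by
  ext Z
  refine ⟨fun h => ?_, fun ⟨x, hx, hxU, hxV⟩ => ⟨⟨x, hx, hxU⟩, ⟨x, hx, hxV⟩⟩⟩
  exact (Z : IrreducibleCloseds X).isIrreducible.2 U V hU hV h.1 h.2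

theorem O_sUnion (S : Set (Set X)) : O (⋃₀ S) = ⋃ U ∈ S, O U := by
  ext Z
  simp only [Set.mem_iUnion, O, Set.mem_setOf_eq]
  constructor
  · rintro ⟨x, hx, U, hU, hxU⟩; exact ⟨U, hU, x, hx, hxU⟩
  · rintro ⟨U, hU, x, hx, hxU⟩; exact ⟨x, hx, U, hU, hxU⟩

theorem O_univ : O (Set.univ : Set X) = Set.univ :=
  Set.eq_univ_of_forall fun Z => by
    obtain ⟨x, hx⟩ := (Z : IrreducibleCloseds X).isIrreducible.1
    exact ⟨x, hx, trivial⟩

theorem exists_eq_O {W : Set (PtTop.Sob X)} (h : IsOpen W) : ∃ U : Set X, IsOpen U ∧ W = O U := by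
  induction h with
  | basic s hs => obtain ⟨U, rfl⟩ := hs; exact ⟨U, U.2, rfl⟩
  | univ => exact ⟨Set.univ, isOpen_univ, O_univ.symm⟩
  | inter s t _ _ hs ht =>
    obtain ⟨U, hU, rfl⟩ := hs
    obtain ⟨V, hV, rfl⟩ := ht
    exact ⟨U ∩ V, hU.inter hV, O_inter hU hV⟩
  | sUnion S _ ih =>
    choose U hU hW using ih
    refine ⟨⋃₀ {V | ∃ s, ∃ hs : s ∈ S, V = U s hs}, isOpen_sUnion (by rintro _ ⟨s, hs, rfl⟩; exact hU s hs), ?_⟩
    rw [O_sUnion]
    ext Z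
    simp only [Set.mem_sUnion, Set.mem_iUnion, Set.mem_setOf_eq]
    constructor
    · rintro ⟨s, hs, hZ⟩; exact ⟨_, ⟨s, hs, rfl⟩, hW s hs ▸ hZ⟩
    · rintro ⟨_, ⟨s, hs, rfl⟩, hZ⟩; exact ⟨s, hs, (hW s hs).symm ▸ hZ⟩

theorem preimage_O {U : Set X} (hU : IsOpen U) : PtTop.toSob X ⁻¹' O U = U := by
  ext x
  refine ⟨fun ⟨y, hy, hyU⟩ => ?_, fun hx => ⟨x, subset_closure rfl, hx⟩⟩
  obtain ⟨z, hzU, rfl⟩ := mem_closure_iff.1 hy U hU hyU
  exact hzU

theorem continuous_toSob : Continuous (PtTop.toSob X) :=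
  continuous_generateFrom_iff.2 fun s hs => by
    obtain ⟨U, rfl⟩ := hs
    exact (preimage_O U.2).symm ▸ U.2

instance quasiSober : QuasiSober (PtTop.Sob X) := by
  refine ⟨fun {F} hF hFc => ?_⟩
  obtain ⟨U, hU, hUF⟩ := exists_eq_O hFc.isOpen_compl
  have hmem : ∀ Z : IrreducibleCloseds X, (Z : PtTop.Sob X) ∈ F ↔ (Z : Set X) ⊆ Uᶜ := fun Z => by
    refine not_iff_not.1 ?_
    have h1 : ((Z : PtTop.Sob X) ∈ Fᶜ) ↔ (((Z : Set X)) ∩ U).Nonempty := by rw [hUF]; rfl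
    refine h1.trans ?_
    rw [Set.not_subset]
    simp [Set.Nonempty]
  have hCirr : IsIrreducible Uᶜ := by
    refine ⟨?_, fun V V' hV hV' hVC hVC' => ?_⟩
    · obtain ⟨Z, hZ⟩ := hF.1
      obtain ⟨x, hx⟩ := (Z : IrreducibleCloseds X).isIrreducible.1
      exact ⟨x, (hmem Z).1 hZ hx⟩
    · have hmeet : ∀ V : Set X, IsOpen V → (Uᶜ ∩ V).Nonempty → (F ∩ O V).Nonempty := fun V hV h => by
        obtain ⟨x, hxC, hxV⟩ := h
        exact ⟨PtTop.toSob X x, (hmem _).2 (closure_minimal (Set.singleton_subset_iff.2 hxC) hU.isClosed_compl),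
          x, subset_closure rfl, hxV⟩
      obtain ⟨Z, hZF, hZ⟩ := hF.2 _ _ (isOpen_O hV) (isOpen_O hV') (hmeet V hV hVC) (hmeet V' hV' hVC')
      rw [O_inter hV hV'] at hZ
      obtain ⟨x, hx, hxV⟩ := hZ
      exact ⟨x, (hmem Z).1 hZF hx, hxV⟩
  refine ⟨(⟨Uᶜ, hCirr, hU.isClosed_compl⟩ : IrreducibleCloseds X), ?_⟩
  refine Set.Subset.antisymm (closure_minimal (Set.singleton_subset_iff.2 ((hmem _).2 subset_rfl)) hFc) fun Z hZ => ?_
  refine mem_closure_iff.2 fun W hW hZW => ?_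
  obtain ⟨V, hV, rfl⟩ := exists_eq_O hW
  obtain ⟨x, hx, hxV⟩ := hZW
  exact ⟨_, ⟨x, (hmem Z).1 hZ hx, hxV⟩, rfl⟩

instance t0 : T0Space (PtTop.Sob X) := by
  refine ⟨fun Z Z' h => ?_⟩
  have key : ∀ Z Z' : PtTop.Sob X, Inseparable Z Z' →
      (cs Z : Set X) ⊆ (cs Z' : Set X) := fun Z Z' h x hx => by
    by_contra hx'
    have hop := (cs Z').isClosed.isOpen_compl
    obtain ⟨y, hy, hy'⟩ := (inseparable_iff_forall_isOpen.1 h _ (isOpen_O hop)).1 ⟨x, hx, hx'⟩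
    exact hy' hy
  show cs Z = cs Z'
  exact SetLike.coe_injective (Set.Subset.antisymm (key Z Z' h) (key Z' Z h.symm))

theorem isCompact_O {U : Set X} (hU : IsOpen U) (hc : IsCompact U) : IsCompact (O U) := by
  classical
  refine isCompact_of_finite_subcover fun {ι} W hW hsub => ?_
  choose V hV hWV using fun i => exists_eq_O (hW i)
  obtain ⟨t, ht⟩ := hc.elim_finite_subcover V hV fun x hx => by
    obtain ⟨i, hi⟩ := Set.mem_iUnion.1 (hsub (show PtTop.toSob X x ∈ O U from ⟨x, subset_closure rfl, hx⟩))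
    refine Set.mem_iUnion.2 ⟨i, ?_⟩
    rw [hWV] at hi
    rw [← preimage_O (hV i)]
    exact hi
  refine ⟨t, fun Z hZ => ?_⟩
  obtain ⟨x, hx, hxU⟩ := hZ
  obtain ⟨i, hit, hxi⟩ := Set.mem_iUnion₂.1 (ht hxU)
  exact Set.mem_iUnion₂.2 ⟨i, hit, hWV i ▸ ⟨x, hx, hxi⟩⟩

end Sober51
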